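import Cfsg.Agent.H627.Gow.Mackey_m3
import Cfsg.Agent.H670.SL2Vals
import Cfsg.Agent.H53.HC.Flag_m3
import Cfsg.Agent.OddOrderCharacters.PF9.CliffGen
import Cfsg.Agent.HKS.Pair
import Cfsg.Agent.S0242
import Cfsg.Agent.H597.IndexP
import Cfsg.Agent.Blocks.Deflate
import Cfsg.Agent.FastGrp
import Cfsg.Agent.Prune
set_option linter.all false
prune_inst 0x7ffffff9fdafeddfdfff7e3ffedfdff9f7e2efffe6fffdcbffe8e1bfafdf7f92efc56f851fea32ff0ff7e2bc10fc7b43fffffeffee6ffc7ffffdfff45ffbffcfedf7bd8871d68c3e0fbc2fff63f07f8e6f3fffffffffffffffffffffffffffbefffffbfeffff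
open scoped Cfsg.Agent.FastGrp

-- part: H612/Deg3/Par
section
/-!
# A maximal parabolic subgroup of `SL_3(q)` (helper612)

* `P F` : the stabiliser of the plane of the first two coordinates, `pi : P F →* GL_2(F)`, `s3` : the other double
  coset;
* `I Ψ` : the function on `SL_3(q)` induced from `Ψ ∘ pi`;
* `inner_I` : `⟨I Ψ, I Φ⟩ = ⟨Ψ, Φ⟩ + (q - 1)⁻² ∑ J Ψ (a, b) conj (J Φ (a, (a b)⁻¹))`, `J` the Jacquet average.
-/

set_option autoImplicit false
set_option linter.unusedSectionVars false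
set_option linter.unusedSimpArgs false

open scoped ComplexConjugate
open Cfsg Matrix

namespace Cfsg.Agent.H612.Deg3

open Cfsg.Agent.Characters Cfsg.Agent.Characters.Core Cfsg.Agent.OddOrderCharacters.Clifford Cfsg.Agent.H53.HC
  Cfsg.Agent.H627.Gow Cfsg.Agent.H670 Cfsg.Agent.H670.RankOne

universe u v

variable {F : Type v} [Field F]

theorem classInner_comp_surj {G : Type*} {Q : Type*} [Group G] [Group Q] [Fintype G] [Fintype Q] (f : G →* Q)
    (hf : Function.Surjective f) (φ ψ : Q → ℂ) : classInner (φ ∘ f) (ψ ∘ f) = classInner φ ψ := by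
  rw [classInner_def, classInner_def]
  have h1 := sum_comp_hom f hf (fun x => φ x * conj (ψ x))
  have h2 : Nat.card G = Nat.card f.ker * Nat.card Q := by
    rw [Subgroup.card_eq_card_quotient_mul_card_subgroup f.ker,
      Nat.card_congr (QuotientGroup.quotientKerEquivOfSurjective f hf).toEquiv, mul_comm]
  have h3 : (Nat.card f.ker : ℂ) ≠ 0 := by exact_mod_cast Nat.card_pos.ne'
  simp only [Function.comp_apply]
  rw [h1, h2]
  push_cast
  rw [mul_inv]
  field_simp

/-! ### The subgroup -/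

theorem det3 (g : _root_.Matrix.SpecialLinearGroup (Fin 3) F) :
    (g : Matrix (Fin 3) (Fin 3) F) 0 0 * (g : Matrix (Fin 3) (Fin 3) F) 1 1 * (g : Matrix (Fin 3) (Fin 3) F) 2 2 -
      (g : Matrix (Fin 3) (Fin 3) F) 0 0 * (g : Matrix (Fin 3) (Fin 3) F) 1 2 * (g : Matrix (Fin 3) (Fin 3) F) 2 1 -
      (g : Matrix (Fin 3) (Fin 3) F) 0 1 * (g : Matrix (Fin 3) (Fin 3) F) 1 0 * (g : Matrix (Fin 3) (Fin 3) F) 2 2 +
      (g : Matrix (Fin 3) (Fin 3) F) 0 1 * (g : Matrix (Fin 3) (Fin 3) F) 1 2 * (g : Matrix (Fin 3) (Fin 3) F) 2 0 +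
      (g : Matrix (Fin 3) (Fin 3) F) 0 2 * (g : Matrix (Fin 3) (Fin 3) F) 1 0 * (g : Matrix (Fin 3) (Fin 3) F) 2 1 -
      (g : Matrix (Fin 3) (Fin 3) F) 0 2 * (g : Matrix (Fin 3) (Fin 3) F) 1 1 * (g : Matrix (Fin 3) (Fin 3) F) 2 0 =
      1 := by
  rw [← Matrix.det_fin_three]
  exact g.2

/-- the stabiliser of the plane of the first two coordinates -/
def P (F : Type v) [Field F] : Subgroup (_root_.Matrix.SpecialLinearGroup (Fin 3) F) where
  carrier := {g | (g : Matrix (Fin 3) (Fin 3) F) 2 0 = 0 ∧ (g : Matrix (Fin 3) (Fin 3) F) 2 1 = 0}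
  one_mem' := by simp only [_root_.Fin.isValue, _root_.Set.mem_ofPred_eq, _root_.Matrix.SpecialLinearGroup.coe_one, _root_.ne_eq, _root_.Fin.reduceEq, _root_.not_false_eq_true, _root_.Matrix.one_apply_ne, _root_.and_self]
  mul_mem' := by
    rintro g h ⟨h1, h2⟩ ⟨h3, h4⟩
    simp only [Matrix.mul_apply, Fin.sum_univ_three, h1, h2, h3, h4, _root_.Fin.isValue, _root_.Set.mem_ofPred_eq, _root_.Matrix.SpecialLinearGroup.coe_mul, _root_.MulZeroClass.zero_mul, _root_.add_zero, _root_.MulZeroClass.mul_zero, _root_.and_self]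
  inv_mem' := by
    rintro g ⟨h1, h2⟩
    simp only [Matrix.SpecialLinearGroup.coe_inv, adjugate_fin_three, h1, h2, _root_.Fin.isValue, _root_.Set.mem_ofPred_eq, _root_.MulZeroClass.mul_zero, _root_.sub_zero, _root_.add_zero, _root_.sub_self, _root_.neg_zero, _root_.Matrix.of_apply, _root_.Matrix.cons_val', _root_.Matrix.cons_val_zero, _root_.Matrix.cons_val_fin_one, _root_.Matrix.cons_val, _root_.Matrix.cons_val_one, _root_.and_self]

theorem mem_P {g : _root_.Matrix.SpecialLinearGroup (Fin 3) F} : g ∈ P F ↔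
    (g : Matrix (Fin 3) (Fin 3) F) 2 0 = 0 ∧ (g : Matrix (Fin 3) (Fin 3) F) 2 1 = 0 := Iff.rfl

theorem detP (g : P F) :
    ((g : _root_.Matrix.SpecialLinearGroup (Fin 3) F) : Matrix (Fin 3) (Fin 3) F) 0 0 *
      ((g : _root_.Matrix.SpecialLinearGroup (Fin 3) F) : Matrix (Fin 3) (Fin 3) F) 1 1 -
      ((g : _root_.Matrix.SpecialLinearGroup (Fin 3) F) : Matrix (Fin 3) (Fin 3) F) 0 1 *
      ((g : _root_.Matrix.SpecialLinearGroup (Fin 3) F) : Matrix (Fin 3) (Fin 3) F) 1 0 ≠ 0 := by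
  intro h
  have h1 := det3 (g : _root_.Matrix.SpecialLinearGroup (Fin 3) F)
  have hg1 := g.2.1
  have hg2 := g.2.2
  have h2 : (((g : _root_.Matrix.SpecialLinearGroup (Fin 3) F) : Matrix (Fin 3) (Fin 3) F) 0 0 *
      ((g : _root_.Matrix.SpecialLinearGroup (Fin 3) F) : Matrix (Fin 3) (Fin 3) F) 1 1 -
      ((g : _root_.Matrix.SpecialLinearGroup (Fin 3) F) : Matrix (Fin 3) (Fin 3) F) 0 1 *
      ((g : _root_.Matrix.SpecialLinearGroup (Fin 3) F) : Matrix (Fin 3) (Fin 3) F) 1 0) *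
      ((g : _root_.Matrix.SpecialLinearGroup (Fin 3) F) : Matrix (Fin 3) (Fin 3) F) 2 2 = 1 := by
    refine Eq.trans ?_ h1
    rw [hg1, hg2]; ring
  rw [h, zero_mul] at h2
  exact zero_ne_one h2

/-- the action on the plane -/
noncomputable def pi : P F →* GL (Fin 2) F where
  toFun g := GL2.mk (((g : _root_.Matrix.SpecialLinearGroup (Fin 3) F) : Matrix (Fin 3) (Fin 3) F) 0 0)
    (((g : _root_.Matrix.SpecialLinearGroup (Fin 3) F) : Matrix (Fin 3) (Fin 3) F) 0 1)
    (((g : _root_.Matrix.SpecialLinearGroup (Fin 3) F) : Matrix (Fin 3) (Fin 3) F) 1 0)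
    (((g : _root_.Matrix.SpecialLinearGroup (Fin 3) F) : Matrix (Fin 3) (Fin 3) F) 1 1) (detP g)
  map_one' := by
    apply GL2.ext4 <;> simp only [GL2.mk00, GL2.mk01, GL2.mk10, GL2.mk11] <;> simp only [GL2.e00, GL2.e01, GL2.e10, GL2.e11, _root_.OneMemClass.coe_one, _root_.Fin.isValue, _root_.Matrix.SpecialLinearGroup.coe_one, _root_.Matrix.one_apply_eq, _root_.Units.val_one, _root_.ne_eq, _root_.zero_ne_one, _root_.not_false_eq_true, _root_.Matrix.one_apply_ne, _root_.one_ne_zero]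
  map_mul' g h := by
    have h1 := h.2.1
    have h2 := h.2.2
    apply GL2.ext4 <;>
      simp only [GL2.mul00, GL2.mul01, GL2.mul10, GL2.mul11, GL2.mk00, GL2.mk01, GL2.mk10, GL2.mk11,
        Matrix.mul_apply, Fin.sum_univ_three, h1, h2, _root_.Subgroup.coe_mul, _root_.Fin.isValue, _root_.Matrix.SpecialLinearGroup.coe_mul, _root_.MulZeroClass.mul_zero, _root_.add_zero]

theorem pi_apply (g : P F) : pi g = GL2.mk (((g : _root_.Matrix.SpecialLinearGroup (Fin 3) F) : Matrix (Fin 3) (Fin 3) F) 0 0)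
    (((g : _root_.Matrix.SpecialLinearGroup (Fin 3) F) : Matrix (Fin 3) (Fin 3) F) 0 1)
    (((g : _root_.Matrix.SpecialLinearGroup (Fin 3) F) : Matrix (Fin 3) (Fin 3) F) 1 0)
    (((g : _root_.Matrix.SpecialLinearGroup (Fin 3) F) : Matrix (Fin 3) (Fin 3) F) 1 1) (detP g) := rfl

private theorem pi_eq_mk {g : _root_.Matrix.SpecialLinearGroup (Fin 3) F} (hg : g ∈ P F) {a b c d : F} (h : a * d - b * c ≠ 0)
    (h00 : (g : Matrix (Fin 3) (Fin 3) F) 0 0 = a) (h01 : (g : Matrix (Fin 3) (Fin 3) F) 0 1 = b)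
    (h10 : (g : Matrix (Fin 3) (Fin 3) F) 1 0 = c) (h11 : (g : Matrix (Fin 3) (Fin 3) F) 1 1 = d) :
    pi ⟨g, hg⟩ = GL2.mk a b c d h := by
  subst h00 h01 h10 h11
  rfl

/-- the lift of an element of `GL_2` -/
noncomputable def lift (A : GL (Fin 2) F) : P F :=
  ⟨⟨!![GL2.e00 A, GL2.e01 A, 0; GL2.e10 A, GL2.e11 A, 0; 0, 0,
    (GL2.e00 A * GL2.e11 A - GL2.e01 A * GL2.e10 A)⁻¹], by
      have h := GL2.det_ne A
      rw [det_fin_three]
      simp only [_root_.Fin.isValue, _root_.Matrix.of_apply, _root_.Matrix.cons_val', _root_.Matrix.cons_val_zero, _root_.Matrix.cons_val_fin_one, _root_.Matrix.cons_val_one, _root_.Matrix.cons_val, _root_.MulZeroClass.mul_zero, _root_.sub_zero, _root_.add_zero, _root_.MulZeroClass.zero_mul]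
      rw [← sub_mul, mul_inv_cancel₀ h]⟩, rfl, rfl⟩

theorem pi_lift (A : GL (Fin 2) F) : pi (lift A) = A := by
  rw [pi_apply]
  apply GL2.ext4 <;> simp only [lift, GL2.mk00, GL2.mk01, GL2.mk10, GL2.mk11, _root_.Fin.isValue, _root_.Matrix.of_apply, _root_.Matrix.cons_val', _root_.Matrix.cons_val_zero, _root_.Matrix.cons_val_fin_one, _root_.Matrix.cons_val_one]

theorem pi_surj : Function.Surjective (pi : P F →* GL (Fin 2) F) := fun A => ⟨lift A, pi_lift A⟩

/-- the representative of the big double coset -/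
def s3 : _root_.Matrix.SpecialLinearGroup (Fin 3) F := ⟨!![1, 0, 0; 0, 0, 1; 0, -1, 0], by
  rw [det_fin_three]
  simp⟩

theorem coe_s3 : ((s3 : _root_.Matrix.SpecialLinearGroup (Fin 3) F) : Matrix (Fin 3) (Fin 3) F) =
    !![1, 0, 0; 0, 0, 1; 0, -1, 0] := rfl

theorem coe_s3_inv : (((s3 : _root_.Matrix.SpecialLinearGroup (Fin 3) F)⁻¹ : _root_.Matrix.SpecialLinearGroup (Fin 3) F) :
    Matrix (Fin 3) (Fin 3) F) = !![1, 0, 0; 0, 0, -1; 0, 1, 0] := by
  rw [Matrix.SpecialLinearGroup.coe_inv, coe_s3, adjugate_fin_three]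
  ext i j
  (revert i j; simp [_root_.Fin.forall_fin_succ])

/-- the conjugate by `s3` -/
theorem conj_s3 (t : _root_.Matrix.SpecialLinearGroup (Fin 3) F) :
    (((s3 : _root_.Matrix.SpecialLinearGroup (Fin 3) F)⁻¹ * t * s3 : _root_.Matrix.SpecialLinearGroup (Fin 3) F) :
      Matrix (Fin 3) (Fin 3) F) =
    !![(t : Matrix (Fin 3) (Fin 3) F) 0 0, -(t : Matrix (Fin 3) (Fin 3) F) 0 2, (t : Matrix (Fin 3) (Fin 3) F) 0 1;
      -(t : Matrix (Fin 3) (Fin 3) F) 2 0, (t : Matrix (Fin 3) (Fin 3) F) 2 2, -(t : Matrix (Fin 3) (Fin 3) F) 2 1;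
      (t : Matrix (Fin 3) (Fin 3) F) 1 0, -(t : Matrix (Fin 3) (Fin 3) F) 1 2, (t : Matrix (Fin 3) (Fin 3) F) 1 1] := by
  rw [Matrix.SpecialLinearGroup.coe_mul, Matrix.SpecialLinearGroup.coe_mul, coe_s3, coe_s3_inv]
  ext i j
  (revert i j; simp only [Matrix.mul_apply, Fin.sum_univ_three, Matrix.vecMul, dotProduct, _root_.Fin.forall_fin_succ, _root_.Matrix.cons_mul, _root_.Nat.succ_eq_add_one, Nat.reduceAdd, _root_.Matrix.empty_mul, _root_.Equiv.symm_apply_apply, _root_.Matrix.of_apply, _root_.Matrix.cons_val', Fin.isValue, _root_.Matrix.cons_val_zero, _root_.one_mul, _root_.Matrix.cons_val_one, _root_.MulZeroClass.zero_mul, _root_.add_zero, _root_.Matrix.cons_val, _root_.neg_mul, _root_.zero_add, _root_.Matrix.cons_val_fin_one, _root_.mul_one, _root_.MulZeroClass.mul_zero, _root_.Matrix.cons_val_succ, _root_.mul_neg, _root_.implies_true, _root_.and_true, _root_.true_and, _root_.neg_neg, _root_.and_self])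

theorem s3_notMem : (s3 : _root_.Matrix.SpecialLinearGroup (Fin 3) F) ∉ P F := by
  rw [mem_P, coe_s3]
  simp

/-- Two double cosets. -/
theorem mem_dbl_s3 {g : _root_.Matrix.SpecialLinearGroup (Fin 3) F} (hg : g ∉ P F) : g ∈ dbl (P F) s3 := by
  -- an element `b` of `P` with second row minus the third row of `g`
  obtain ⟨x, y, hxy⟩ : ∃ x y : F, -x * (g : Matrix (Fin 3) (Fin 3) F) 2 1 + y * (g : Matrix (Fin 3) (Fin 3) F) 2 0 = 1 := by
    by_cases h : (g : Matrix (Fin 3) (Fin 3) F) 2 0 = 0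
    · have h' : (g : Matrix (Fin 3) (Fin 3) F) 2 1 ≠ 0 := fun h' => hg ⟨h, h'⟩
      exact ⟨-((g : Matrix (Fin 3) (Fin 3) F) 2 1)⁻¹, 0, by rw [neg_neg, inv_mul_cancel₀ h', zero_mul, add_zero]⟩
    · exact ⟨0, ((g : Matrix (Fin 3) (Fin 3) F) 2 0)⁻¹, by rw [inv_mul_cancel₀ h]; simp⟩
  let b : _root_.Matrix.SpecialLinearGroup (Fin 3) F := ⟨!![x, y, 0; -(g : Matrix (Fin 3) (Fin 3) F) 2 0,
    -(g : Matrix (Fin 3) (Fin 3) F) 2 1, -(g : Matrix (Fin 3) (Fin 3) F) 2 2; 0, 0, 1], by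
      rw [det_fin_three]
      simp only [_root_.Fin.isValue, _root_.Matrix.of_apply, _root_.Matrix.cons_val', _root_.Matrix.cons_val_zero, _root_.Matrix.cons_val_fin_one, _root_.Matrix.cons_val_one, _root_.mul_neg, _root_.Matrix.cons_val, _root_.mul_one, _root_.MulZeroClass.mul_zero, _root_.sub_zero, _root_.sub_neg_eq_add, _root_.add_zero, _root_.MulZeroClass.zero_mul, _root_.neg_zero]
      linear_combination hxy⟩
  have hb : b ∈ P F := ⟨rfl, rfl⟩
  have hbs : ((s3 * b : _root_.Matrix.SpecialLinearGroup (Fin 3) F) : Matrix (Fin 3) (Fin 3) F) =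
      !![x, y, 0; 0, 0, 1; (g : Matrix (Fin 3) (Fin 3) F) 2 0, (g : Matrix (Fin 3) (Fin 3) F) 2 1,
        (g : Matrix (Fin 3) (Fin 3) F) 2 2] := by
    rw [Matrix.SpecialLinearGroup.coe_mul, coe_s3]
    ext i j
    (revert i j; simp only [Matrix.mul_apply, Fin.sum_univ_three, b, _root_.Fin.forall_fin_succ, Fin.isValue, _root_.Matrix.of_apply, _root_.Matrix.cons_val', _root_.Matrix.cons_val_fin_one, _root_.Matrix.cons_val_zero, _root_.Matrix.cons_val_one, _root_.Matrix.cons_val, _root_.mul_neg, _root_.MulZeroClass.mul_zero, _root_.add_zero, _root_.Matrix.cons_val_succ, _root_.zero_add, _root_.mul_one, _root_.forall_const, _root_.one_mul, _root_.MulZeroClass.zero_mul, _root_.neg_zero, _root_.and_self, _root_.neg_mul, _root_.neg_neg, _root_.implies_true])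
  have ha : g * (s3 * b)⁻¹ ∈ P F := by
    rw [mem_P, Matrix.SpecialLinearGroup.coe_mul, Matrix.SpecialLinearGroup.coe_inv, hbs, adjugate_fin_three]
    simp only [Matrix.mul_apply, Fin.sum_univ_three, _root_.Fin.isValue, _root_.Matrix.of_apply, _root_.Matrix.cons_val', _root_.Matrix.cons_val_one, _root_.Matrix.cons_val_zero, _root_.Matrix.cons_val_fin_one, _root_.Matrix.cons_val, _root_.MulZeroClass.zero_mul, _root_.one_mul, _root_.zero_sub, _root_.add_zero, _root_.mul_one, _root_.MulZeroClass.mul_zero, _root_.sub_zero, _root_.neg_zero, _root_.zero_add, _root_.sub_self, _root_.mul_neg]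
    constructor <;> ring
  exact ⟨_, ha, b, hb, by group⟩

/-! ### The torus of the second double coset -/

/-- the elements of `P ∩ s P s⁻¹` -/
def elt (z : (Fˣ × Fˣ) × F × F) : _root_.Matrix.SpecialLinearGroup (Fin 3) F :=
  ⟨!![(z.1.1 : F), z.2.1, z.2.2; 0, (z.1.2 : F), 0; 0, 0, (((z.1.1 * z.1.2)⁻¹ : Fˣ) : F)], by
    rw [det_fin_three]
    simp only [_root_.mul_inv_rev, _root_.Units.val_mul, _root_.Units.val_inv_eq_inv_val, _root_.Fin.isValue, _root_.Matrix.of_apply, _root_.Matrix.cons_val', _root_.Matrix.cons_val_zero, _root_.Matrix.cons_val_fin_one, _root_.Matrix.cons_val_one, _root_.Matrix.cons_val, _root_.MulZeroClass.mul_zero, _root_.sub_zero, _root_.MulZeroClass.zero_mul, _root_.add_zero]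
    field_simp⟩

theorem coe_elt (z : (Fˣ × Fˣ) × F × F) : ((elt z : _root_.Matrix.SpecialLinearGroup (Fin 3) F) : Matrix (Fin 3) (Fin 3) F) =
    !![(z.1.1 : F), z.2.1, z.2.2; 0, (z.1.2 : F), 0; 0, 0, (((z.1.1 * z.1.2)⁻¹ : Fˣ) : F)] := rfl

theorem elt_mem (z : (Fˣ × Fˣ) × F × F) : (elt z : _root_.Matrix.SpecialLinearGroup (Fin 3) F) ∈ P F := by
  rw [mem_P, coe_elt]
  simp only [_root_.mul_inv_rev, _root_.Units.val_mul, _root_.Units.val_inv_eq_inv_val, _root_.Fin.isValue, _root_.Matrix.of_apply, _root_.Matrix.cons_val', _root_.Matrix.cons_val_zero, _root_.Matrix.cons_val_fin_one, _root_.Matrix.cons_val, _root_.Matrix.cons_val_one, _root_.and_self]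

theorem conj_elt_mem (z : (Fˣ × Fˣ) × F × F) : s3⁻¹ * (elt z : _root_.Matrix.SpecialLinearGroup (Fin 3) F) * s3 ∈ P F := by
  rw [mem_P, conj_s3, coe_elt]
  simp only [_root_.mul_inv_rev, _root_.Units.val_mul, _root_.Units.val_inv_eq_inv_val, _root_.Fin.isValue, _root_.Matrix.of_apply, _root_.Matrix.cons_val', _root_.Matrix.cons_val_zero, _root_.Matrix.cons_val_fin_one, _root_.Matrix.cons_val, _root_.Matrix.cons_val_one, _root_.neg_zero, _root_.and_self]

/-- the parametrisation -/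
noncomputable def eltE : ((Fˣ × Fˣ) × F × F) ≃ dsub (P F) s3 :=
  Equiv.ofBijective (fun z => ⟨⟨elt z, elt_mem z⟩, (mem_dsub _ _ _).2 (conj_elt_mem z)⟩) (by
    constructor
    · rintro ⟨⟨a, b⟩, x, y⟩ ⟨⟨a', b'⟩, x', y'⟩ h
      have h1 : elt ((a, b), x, y) = elt ((a', b'), x', y') := congrArg (fun z => ((z : P F) : _root_.Matrix.SpecialLinearGroup (Fin 3) F))
        (congrArg Subtype.val h)
      have h2 := congrArg (fun z : _root_.Matrix.SpecialLinearGroup (Fin 3) F => (z : Matrix (Fin 3) (Fin 3) F)) h1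
      simp only [coe_elt] at h2
      have h00 := congrFun (congrFun h2 0) 0
      have h01 := congrFun (congrFun h2 0) 1
      have h02 := congrFun (congrFun h2 0) 2
      have h11 := congrFun (congrFun h2 1) 1
      simp only [_root_.mul_inv_rev, _root_.Units.val_mul, _root_.Units.val_inv_eq_inv_val, _root_.Fin.isValue, _root_.Matrix.of_apply, _root_.Matrix.cons_val', _root_.Matrix.cons_val_zero, _root_.Matrix.cons_val_fin_one, _root_.Matrix.cons_val_one, _root_.Matrix.cons_val] at h00 h01 h02 h11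
      rw [Units.ext h00, h01, h02, Units.ext h11]
    · rintro ⟨⟨g, hg⟩, hg'⟩
      have h1 := (mem_dsub _ _ _).1 hg'
      rw [mem_P] at h1 hg
      change (((s3 : _root_.Matrix.SpecialLinearGroup (Fin 3) F)⁻¹ * g * s3 : _root_.Matrix.SpecialLinearGroup (Fin 3) F) :
        Matrix (Fin 3) (Fin 3) F) 2 0 = 0 ∧ (((s3 : _root_.Matrix.SpecialLinearGroup (Fin 3) F)⁻¹ * g * s3 :
        _root_.Matrix.SpecialLinearGroup (Fin 3) F) : Matrix (Fin 3) (Fin 3) F) 2 1 = 0 at h1
      rw [conj_s3] at h1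
      simp only [_root_.Fin.isValue, _root_.Matrix.of_apply, _root_.Matrix.cons_val', _root_.Matrix.cons_val_zero, _root_.Matrix.cons_val_fin_one, _root_.Matrix.cons_val, _root_.Matrix.cons_val_one, _root_.neg_eq_zero] at h1
      obtain ⟨h10, h12⟩ := h1
      obtain ⟨h20, h21⟩ := hg
      have hdet := det3 g
      rw [h10, h12, h20, h21] at hdet
      simp only [mul_zero, zero_mul, sub_zero, add_zero] at hdet
      have h00 : (g : Matrix (Fin 3) (Fin 3) F) 0 0 ≠ 0 := by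
        intro h; rw [h] at hdet; simp at hdet
      have h11 : (g : Matrix (Fin 3) (Fin 3) F) 1 1 ≠ 0 := by
        intro h; rw [h] at hdet; simp at hdet
      refine ⟨((Units.mk0 _ h00, Units.mk0 _ h11), (g : Matrix (Fin 3) (Fin 3) F) 0 1,
        (g : Matrix (Fin 3) (Fin 3) F) 0 2), ?_⟩
      apply Subtype.ext
      apply Subtype.ext
      apply Subtype.ext
      change ((elt _ : _root_.Matrix.SpecialLinearGroup (Fin 3) F) : Matrix (Fin 3) (Fin 3) F) = (g : Matrix (Fin 3) (Fin 3) F)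
      rw [coe_elt]
      ext i j
      (revert i j; simp only [h10, h12, h20, h21, _root_.Fin.forall_fin_succ, Fin.isValue, _root_.Units.val_mk0, _root_.mul_inv_rev, _root_.Units.val_mul, _root_.Units.val_inv_eq_inv_val, _root_.Matrix.of_apply, _root_.Matrix.cons_val', _root_.Matrix.cons_val_fin_one, _root_.Matrix.cons_val_zero, _root_.Matrix.cons_val_succ, _root_.Fin.succ_zero_eq_one, _root_.Fin.succ_one_eq_two, _root_.IsEmpty.forall_iff, _root_.and_true, _root_.true_and]) <;> (repeat' with_reducible apply And.intro)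
      field_simp
      linear_combination -hdet)

/-! ### The inner products -/

section inner

variable [Fintype F] [Fintype Fˣ] [Fintype (_root_.Matrix.SpecialLinearGroup (Fin 3) F)] [Fintype (GL (Fin 2) F)]

/-- the function induced from `Ψ ∘ pi` -/
noncomputable def I (Ψ : GL (Fin 2) F → ℂ) : _root_.Matrix.SpecialLinearGroup (Fin 3) F → ℂ := indFun (P F) (Ψ ∘ pi)

/-- the Jacquet average -/
noncomputable def J (Ψ : GL (Fin 2) F → ℂ) (z : Fˣ × Fˣ) : ℂ := (GL2.data F).jac Ψ (GL2.tt z)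

theorem J_eq (Ψ : GL (Fin 2) F → ℂ) (a b : Fˣ) :
    ∑ x : F, Ψ (GL2.mk a x 0 b (by simp)) = (Fintype.card F : ℂ) * J Ψ (a, b) := by
  have hF : (Fintype.card F : ℂ) ≠ 0 := Nat.cast_ne_zero.2 Fintype.card_ne_zero
  rw [J, Data.jac_def, mul_inv_cancel_left₀ hF]
  symm
  refine Fintype.sum_equiv (Equiv.mulRight₀ (b : F) b.ne_zero) _ _ fun x => ?_
  congr 1
  apply GL2.ext4
  · simp [GL2.data_X, GL2.tt_coe, GL2.mul00, GL2.x00, GL2.x01, GL2.tor00, GL2.tor10, GL2.mk00]
  · simp [GL2.data_X, GL2.tt_coe, GL2.mul01, GL2.x00, GL2.x01, GL2.tor01, GL2.tor11, GL2.mk01]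
  · simp [GL2.data_X, GL2.tt_coe, GL2.mul10, GL2.x10, GL2.x11, GL2.tor00, GL2.tor10, GL2.mk10]
  · simp [GL2.data_X, GL2.tt_coe, GL2.mul11, GL2.x10, GL2.x11, GL2.tor01, GL2.tor11, GL2.mk11]

/-- the second Mackey term -/
noncomputable def X (Ψ Φ : GL (Fin 2) F → ℂ) : ℂ :=
  ((Fintype.card (Fˣ × Fˣ) : ℂ))⁻¹ * ∑ z : Fˣ × Fˣ, J Ψ z * conj (J Φ (z.1, (z.1 * z.2)⁻¹))

theorem mterm_s3 [Fintype (P F)] (Ψ Φ : GL (Fin 2) F → ℂ) :
    mterm (P F) (Ψ ∘ pi) (Φ ∘ pi) s3 = X Ψ Φ := by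
  classical
  have : Fintype (dsub (P F) s3) := Fintype.ofFinite _
  have hF : (Fintype.card F : ℂ) ≠ 0 := Nat.cast_ne_zero.2 Fintype.card_ne_zero
  rw [mterm_eq_classInner, classInner_def, Nat.card_congr eltE.symm, ← Equiv.sum_comp eltE, Fintype.sum_prod_type, X,
    Nat.card_eq_fintype_card]
  simp only [Fintype.card_prod]
  have h1 : ∀ z : Fˣ × Fˣ, ∑ y : F × F, ((Ψ ∘ pi) ∘ (dsub (P F) s3).subtype) (eltE (z, y)) *
      conj (((Φ ∘ pi) ∘ dhom (P F) s3) (eltE (z, y))) =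
      (Fintype.card F : ℂ) * (Fintype.card F : ℂ) * (J Ψ z * conj (J Φ (z.1, (z.1 * z.2)⁻¹))) := by
    rintro ⟨a, b⟩
    have h2 : ∀ y : F × F, ((Ψ ∘ pi) ∘ (dsub (P F) s3).subtype) (eltE ((a, b), y)) *
        conj (((Φ ∘ pi) ∘ dhom (P F) s3) (eltE ((a, b), y))) =
        Ψ (GL2.mk a y.1 0 b (by simp)) * conj (Φ (GL2.mk a (-y.2) 0 (((a * b)⁻¹ : Fˣ) : F) (by simp only [_root_.mul_inv_rev, _root_.Units.val_mul, _root_.Units.val_inv_eq_inv_val, _root_.MulZeroClass.mul_zero, _root_.sub_zero, _root_.ne_eq, _root_.mul_eq_zero, _root_.Units.ne_zero, _root_.inv_eq_zero, _root_.or_self, _root_.not_false_eq_true]))) := by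
      rintro ⟨x, y⟩
      have e1 : pi ⟨elt ((a, b), x, y), elt_mem _⟩ = GL2.mk (a : F) x 0 b (by simp) := rfl
      have e2 : pi ⟨s3⁻¹ * elt ((a, b), x, y) * s3, conj_elt_mem _⟩ =
          GL2.mk (a : F) (-y) 0 (((a * b)⁻¹ : Fˣ) : F) (by simp only [_root_.mul_inv_rev, _root_.Units.val_mul, _root_.Units.val_inv_eq_inv_val, _root_.MulZeroClass.mul_zero, _root_.sub_zero, _root_.ne_eq, _root_.mul_eq_zero, _root_.Units.ne_zero, _root_.inv_eq_zero, _root_.or_self, _root_.not_false_eq_true]) := by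
        refine pi_eq_mk _ _ ?_ ?_ ?_ ?_ <;> rw [conj_s3, coe_elt] <;> simp only [_root_.mul_inv_rev, _root_.Units.val_mul, _root_.Units.val_inv_eq_inv_val, _root_.Fin.isValue, _root_.Matrix.of_apply, _root_.Matrix.cons_val', _root_.Matrix.cons_val_zero, _root_.Matrix.cons_val_fin_one, _root_.Matrix.cons_val, _root_.Matrix.cons_val_one, _root_.neg_zero]
      change Ψ (pi ⟨elt ((a, b), x, y), elt_mem _⟩) * conj (Φ (pi ⟨s3⁻¹ * elt ((a, b), x, y) * s3, conj_elt_mem _⟩)) = _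
      rw [e1, e2]
    have h3 : ∑ y : F, Φ (GL2.mk (a : F) (-y) 0 (((a * b)⁻¹ : Fˣ) : F) (by simp only [_root_.mul_inv_rev, _root_.Units.val_mul, _root_.Units.val_inv_eq_inv_val, _root_.MulZeroClass.mul_zero, _root_.sub_zero, _root_.ne_eq, _root_.mul_eq_zero, _root_.Units.ne_zero, _root_.inv_eq_zero, _root_.or_self, _root_.not_false_eq_true])) =
        (Fintype.card F : ℂ) * J Φ (a, (a * b)⁻¹) := by
      rw [← J_eq, ← Equiv.sum_comp (Equiv.neg F)]
      simp only [Equiv.neg_apply, neg_neg]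
    rw [Finset.sum_congr rfl fun y _ => h2 y, Fintype.sum_prod_type]
    refine Eq.trans (Fintype.sum_mul_sum (fun x => Ψ (GL2.mk (a : F) x 0 b (by simp)))
      (fun y => conj (Φ (GL2.mk (a : F) (-y) 0 (((a * b)⁻¹ : Fˣ) : F) (by simp only [_root_.mul_inv_rev, _root_.Units.val_mul, _root_.Units.val_inv_eq_inv_val, _root_.MulZeroClass.mul_zero, _root_.sub_zero, _root_.ne_eq, _root_.mul_eq_zero, _root_.Units.ne_zero, _root_.inv_eq_zero, _root_.or_self, _root_.not_false_eq_true]))))).symm ?_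
    rw [J_eq, ← map_sum, h3, map_mul, Complex.conj_natCast]
    ring
  rw [Finset.sum_congr rfl fun z _ => h1 z, ← Finset.mul_sum]
  push_cast
  field_simp

theorem isClassFunction_comp {G : Type*} {Q : Type*} [Group G] [Group Q] (f : G →* Q) {φ : Q → ℂ}
    (h : IsClassFunction Q φ) : IsClassFunction G (φ ∘ f) := by
  intro a b
  rw [Function.comp_apply, Function.comp_apply, map_mul, map_mul, map_inv]
  exact h _ _

/-- **The inner products.** -/
theorem inner_I {Ψ Φ : GL (Fin 2) F → ℂ} (hΨ : IsClassFunction _ Ψ) (hΦ : IsClassFunction _ Φ) :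
    classInner (I Ψ) (I Φ) = classInner Ψ Φ + X Ψ Φ := by
  classical
  have : Fintype (P F) := Fintype.ofFinite _
  have hne : (1 : _root_.Matrix.SpecialLinearGroup (Fin 3) F) ≠ s3 := fun h => s3_notMem (h ▸ (P F).one_mem)
  have h1 := inner_eq (isClassFunction_comp pi hΨ) (isClassFunction_comp pi hΦ) {1, s3} (by
    intro x hx y hy hxy
    simp only [Finset.mem_insert, Finset.mem_singleton] at hx hy
    rcases hx with rfl | rfl <;> rcases hy with rfl | rfl
    · rfl
    · obtain ⟨a, ha, b, hb, h⟩ := hxy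
      exact absurd (h ▸ (P F).mul_mem ((P F).mul_mem ha (P F).one_mem) hb) s3_notMem
    · obtain ⟨a, ha, b, hb, h⟩ := hxy
      exfalso
      apply s3_notMem (F := F)
      have h2 : (s3 : _root_.Matrix.SpecialLinearGroup (Fin 3) F) = a⁻¹ * b⁻¹ := by
        have : s3 = a⁻¹ * (a * s3 * b) * b⁻¹ := by group
        rw [this, ← h]; group
      rw [h2]
      exact (P F).mul_mem ((P F).inv_mem ha) ((P F).inv_mem hb)
    · rfl) (by
    intro x _
    by_cases hx : x ∈ P F
    · exact ⟨1, by simp, ⟨x, hx, 1, (P F).one_mem, by simp⟩⟩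
    · exact ⟨s3, by simp, mem_dbl_s3 hx⟩)
  rw [Finset.sum_pair hne, mterm_s3] at h1
  unfold I
  rw [h1]
  congr 1
  have h2 := twist_eq (T := P F) (α := Ψ ∘ pi) (β := Φ ∘ pi) (1 : _root_.Matrix.SpecialLinearGroup (Fin 3) F)
  rw [twist_of_mem (P F) _ _ (isClassFunction_comp pi hΦ) 1 (P F).one_mem, classInner_comp_surj pi pi_surj] at h2
  have h3 : dsub (P F) (1 : _root_.Matrix.SpecialLinearGroup (Fin 3) F) = ⊤ := by
    rw [eq_top_iff]
    intro t _
    rw [mem_dsub]
    simp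
  rw [h3, Subgroup.card_top] at h2
  exact (mul_left_cancel₀ card_ne_zero' h2).symm

theorem isCharacter_I {Ψ : GL (Fin 2) F → ℂ} (h : IsCharacter _ Ψ) : IsCharacter _ (I Ψ) :=
  OddOrderCharacters.IndRes.isCharacter_indFun _ (isCharacter_comp pi h)

end inner

end Cfsg.Agent.H612.Deg3
end

-- part: H612/Deg3/NonCusp
section
/-!
# The noncuspidal characters of `SL_3(q)` (helper612)
-/

set_option autoImplicit false
set_option linter.unusedSectionVars false
set_option linter.unusedSimpArgs false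

open scoped ComplexConjugate
open Cfsg Matrix

namespace Cfsg.Agent.H612.Deg3

open Cfsg.Agent.Characters Cfsg.Agent.Characters.Core Cfsg.Agent.OddOrderCharacters.Clifford Cfsg.Agent.H53.HC
  Cfsg.Agent.H627.Gow Cfsg.Agent.H670 Cfsg.Agent.H670.RankOne

universe u v

/-! ### Generalities -/

theorem inner_hom {A : Type*} [Group A] [Fintype A] (f g : A →* ℂˣ) [Decidable (f = g)] :
    classInner (fun a => (f a : ℂ)) (fun a => (g a : ℂ)) = if f = g then 1 else 0 := by
  split_ifs with h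
  · subst h
    exact classInner_irr_self (Characters.Linear.isIrrCharacter_hom f)
  · apply classInner_irr_ne (Characters.Linear.isIrrCharacter_hom f) (Characters.Linear.isIrrCharacter_hom g)
    intro h1
    apply h
    ext a
    exact congrFun h1 a

/-- a character of norm one with a constituent -/
theorem eq_of_norm_one {G : Type*} [Group G] [Fintype G] {Θ χ : G → ℂ} (hΘ : IsCharacter G Θ)
    (hχ : IsIrrCharacter G χ) (h : classInner χ Θ ≠ 0) (h1 : classInner Θ Θ = 1) : χ = Θ := by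
  by_contra hne
  exact h (classInner_irr_ne hχ (isIrr_of_classInner_self hΘ h1) hne)

/-- a character of norm two which is not orthogonal to two irreducible characters -/
theorem eq_of_norm_two {G : Type*} [Group G] [Fintype G] {Θ χ χ₁ χ₂ : G → ℂ} (hΘ : IsCharacter G Θ)
    (hχ : IsIrrCharacter G χ) (h : classInner χ Θ ≠ 0) (h2 : classInner Θ Θ = 2) (h₁ : IsIrrCharacter G χ₁)
    (h₂ : IsIrrCharacter G χ₂) (h12 : χ₁ ≠ χ₂) (i₁ : classInner Θ χ₁ ≠ 0) (i₂ : classInner Θ χ₂ ≠ 0) :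
    χ = χ₁ ∨ χ = χ₂ := by
  obtain ⟨μ, ν, hμ, hν, hne, hsum⟩ := HKS.exists_add_of_norm_two hΘ h2
  have key : ∀ ψ : G → ℂ, IsIrrCharacter G ψ → classInner Θ ψ ≠ 0 → ψ = μ ∨ ψ = ν := by
    intro ψ hψ hi
    by_contra hc
    push Not at hc
    apply hi
    rw [hsum, classInner_add_left, classInner_irr_ne hμ hψ (Ne.symm hc.1), classInner_irr_ne hν hψ (Ne.symm hc.2),
      add_zero]
  have h' : classInner Θ χ ≠ 0 := by
    intro h0
    apply h
    rw [← classInner_conj_symm, h0, map_zero]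
  have a := key χ hχ h'
  have b := key χ₁ h₁ i₁
  have c := key χ₂ h₂ i₂
  rcases a with rfl | rfl <;> rcases b with rfl | rfl <;> rcases c with rfl | rfl <;> simp_all only [_root_.ne_eq, _root_.not_true_eq_false, _root_.not_false_eq_true, _root_.or_false, _root_.or_true]

variable {F : Type v} [Field F] [Fintype F]

/-! ### The characters of the torus -/

/-- a character of the torus of `GL_2` as a character of `Fˣ × Fˣ` -/
noncomputable def fl (lam : (GL2.data F).T →* ℂˣ) : Fˣ × Fˣ →* ℂˣ := lam.comp (GL2.ttE F).toMonoidHom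

theorem fl_apply (lam : (GL2.data F).T →* ℂˣ) (z : Fˣ × Fˣ) : fl lam z = lam (GL2.tt z) := rfl

theorem fl_wT (lam : (GL2.data F).T →* ℂˣ) (z : Fˣ × Fˣ) : fl (lam.comp (GL2.data F).wT) z = fl lam z.swap := by
  rw [fl_apply, fl_apply, MonoidHom.comp_apply, GL2.data_wT]

theorem fl_inj {lam mu : (GL2.data F).T →* ℂˣ} (h : fl lam = fl mu) : lam = mu := by
  ext t
  obtain ⟨z, rfl⟩ := GL2.exists_tt t
  exact congrArg Units.val (DFunLike.congr_fun h z)

/-- the reflection `(a, b) ↦ (a, (a b)⁻¹)` -/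
def sg : Fˣ × Fˣ →* Fˣ × Fˣ where
  toFun z := (z.1, (z.1 * z.2)⁻¹)
  map_one' := by simp
  map_mul' z w := by
    apply Prod.ext
    · rfl
    · simp only [Prod.fst_mul, Prod.snd_mul, ← mul_inv]
      congr 1
      exact mul_mul_mul_comm _ _ _ _

theorem sg_apply (z : Fˣ × Fˣ) : sg z = (z.1, (z.1 * z.2)⁻¹) := rfl

theorem sg_sg (z : Fˣ × Fˣ) : sg (sg z) = z := by
  rw [sg_apply, sg_apply]
  apply Prod.ext
  · rfl
  · simp

section inner

variable [Fintype Fˣ] [Fintype (_root_.Matrix.SpecialLinearGroup (Fin 3) F)] [Fintype (GL (Fin 2) F)]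

theorem X_eq (Ψ Φ : GL (Fin 2) F → ℂ) : X Ψ Φ = classInner (J Ψ) (J Φ ∘ sg) := by
  rw [X, classInner_def, Nat.card_eq_fintype_card]
  rfl

/-- the torus part of the principal series -/
theorem J_ind (lam : (GL2.data F).T →* ℂˣ) :
    J ((GL2.data F).ind lam) = (fun z => (fl lam z : ℂ)) + fun z => (fl (lam.comp (GL2.data F).wT) z : ℂ) := by
  classical
  have := finite_hom (GL2.data F).comm_T
  have : Fintype ((GL2.data F).T →* ℂˣ) := Fintype.ofFinite _
  funext z
  have h := (GL2.data F).jac_eq (isCharacter_isClassFunction ((GL2.data F).isCharacter_ind lam)) (GL2.tt z)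
  rw [J, h]
  simp only [Data.inner_ind, add_mul, ite_mul, one_mul, zero_mul, Finset.sum_add_distrib]
  rw [Pi.add_apply]
  congr 1
  · rw [Finset.sum_ite_eq Finset.univ lam, if_pos (Finset.mem_univ _)]
    rfl
  · rw [Finset.sum_eq_single (lam.comp (GL2.data F).wT)]
    · rw [(GL2.data F).comp_wT_comp_wT, if_pos rfl]
      rfl
    · intro mu _ hmu
      rw [if_neg]
      intro h1
      apply hmu
      rw [h1, (GL2.data F).comp_wT_comp_wT]
    · exact fun h => absurd (Finset.mem_univ _) h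

/-- a character of norm `0` on the unipotent subgroup has `J = 0` -/
theorem J_cusp {Ψ : GL (Fin 2) F → ℂ} (hΨ : IsIrrCharacter _ Ψ) (h : (GL2.data F).cf Ψ 0 = 0) : J Ψ = 0 := by
  classical
  have := finite_hom (GL2.data F).comm_T
  have : Fintype ((GL2.data F).T →* ℂˣ) := Fintype.ofFinite _
  funext z
  have h1 := (GL2.data F).jac_eq (isIrr_isClassFunction hΨ) (GL2.tt z)
  rw [J, h1]
  refine Finset.sum_eq_zero fun lam _ => ?_
  obtain ⟨n, hn⟩ := (GL2.data F).inner_nat (isIrr_isCharacter hΨ) lam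
  have h2 := (GL2.data F).le_cf_zero (isIrr_isCharacter hΨ) lam hn (n := 0) (by rw [h, Nat.cast_zero])
  have h3 : n = 0 := by omega
  rw [hn, h3, Nat.cast_zero, zero_mul]

theorem X_hom {Ψ Φ : GL (Fin 2) F → ℂ} {f g : Fˣ × Fˣ →* ℂˣ} [Decidable (f = g.comp sg)]
    (hΨ : J Ψ = fun z => (f z : ℂ)) (hΦ : J Φ = fun z => (g z : ℂ)) :
    X Ψ Φ = if f = g.comp sg then 1 else 0 := by
  rw [X_eq, hΨ, hΦ, ← inner_hom f (g.comp sg)]
  rfl

theorem comp_sg_iff (f g : Fˣ × Fˣ →* ℂˣ) : f = g.comp sg ↔ f.comp sg = g := by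
  constructor
  · rintro rfl
    ext z
    simp [sg_sg]
  · rintro rfl
    ext z
    simp [sg_sg]

/-- fixed by the reflection -/
theorem fix_sg_iff (f : Fˣ × Fˣ →* ℂˣ) : f = f.comp sg ↔ ∀ c, f (1, c) = 1 := by
  constructor
  · intro h c
    have h1 := DFunLike.congr_fun h (c, 1)
    rw [MonoidHom.comp_apply, sg_apply] at h1
    have h2 : f (1, c) = f (c, 1) * (f (c, (c * 1)⁻¹))⁻¹ := by
      rw [← map_inv, ← map_mul]
      congr 1
      simp
    rw [h2, h1]
    exact mul_inv_cancel _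
  · intro h
    have key : ∀ a b, f (a, b) = f (a, 1) := by
      intro a b
      have : ((a, b) : Fˣ × Fˣ) = (a, 1) * (1, b) := by simp
      rw [this, map_mul, h, mul_one]
    ext ⟨a, b⟩
    rw [MonoidHom.comp_apply, sg_apply]
    simp only []
    rw [key a b, key a (a * b)⁻¹]

/-- `f` composed with the swap -/
def sw (f : Fˣ × Fˣ →* ℂˣ) : Fˣ × Fˣ →* ℂˣ := f.comp (MulEquiv.prodComm : Fˣ × Fˣ ≃* Fˣ × Fˣ).toMonoidHom

theorem sw_apply (f : Fˣ × Fˣ →* ℂˣ) (z : Fˣ × Fˣ) : sw f z = f z.swap := rfl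

theorem sw_sw (f : Fˣ × Fˣ →* ℂˣ) : sw (sw f) = f := by
  ext z
  rfl

theorem fl_wT' (lam : (GL2.data F).T →* ℂˣ) : fl (lam.comp (GL2.data F).wT) = sw (fl lam) := by
  ext z
  rw [fl_wT, sw_apply]

theorem fl_eq_iff (lam : (GL2.data F).T →* ℂˣ) : lam = lam.comp (GL2.data F).wT ↔ fl lam = sw (fl lam) := by
  constructor
  · intro h
    rw [← fl_wT', ← h]
  · intro h
    apply fl_inj
    rw [fl_wT', ← h]

theorem e1 (a b : Fˣ) : (b * (a * b)⁻¹)⁻¹ = a := by
  rw [_root_.mul_inv_rev, inv_inv, mul_inv_cancel_right]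

theorem e2 (a b : Fˣ) : ((a * b)⁻¹ * a)⁻¹ = b := by
  rw [_root_.mul_inv_rev, inv_inv, inv_mul_cancel_left]

/-- the 3-cycles -/
theorem cycle_iff (f : Fˣ × Fˣ →* ℂˣ) : f = (sw f).comp sg ↔ sw f = f.comp sg := by
  constructor
  · intro h
    have h1 : ∀ a b, f (a, b) = f ((a * b)⁻¹, a) := fun a b => DFunLike.congr_fun h (a, b)
    ext ⟨a, b⟩
    rw [MonoidHom.comp_apply, sg_apply, sw_apply]
    simp only [Prod.swap_prod_mk]
    rw [h1 b a, h1 _ b, e2, mul_comm b a]
  · intro h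
    have h1 : ∀ a b, f (b, a) = f (a, (a * b)⁻¹) := fun a b => DFunLike.congr_fun h (a, b)
    ext ⟨a, b⟩
    rw [MonoidHom.comp_apply, sg_apply, sw_apply]
    simp only [Prod.swap_prod_mk]
    rw [h1 b a, h1 _ b, mul_comm b a, mul_comm (a * b)⁻¹ b, e1]

/-- the invariants under a 3-cycle are trivial on the scalars -/
theorem cycle_scalar {f : Fˣ × Fˣ →* ℂˣ} (h : f = (sw f).comp sg) (c : Fˣ) : f (c, c) = 1 := by
  have h1 : ∀ a b, f (a, b) = f ((a * b)⁻¹, a) := fun a b => DFunLike.congr_fun h (a, b)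
  have h2 := h1 1 c
  rw [one_mul] at h2
  have h3 : f (c, c) = f (1, c) * (f (c⁻¹, 1))⁻¹ := by
    rw [← map_inv, ← map_mul]
    congr 1
    simp
  rw [h3, h2]
  exact mul_inv_cancel _

/-- **The norm of the principal series.** -/
theorem norm_ps {lam : (GL2.data F).T →* ℂˣ} (h : lam ≠ lam.comp (GL2.data F).wT) :
    (fl lam ≠ (fl lam).comp sg → sw (fl lam) ≠ (sw (fl lam)).comp sg → fl lam ≠ (sw (fl lam)).comp sg →
      classInner (I ((GL2.data F).ind lam)) (I ((GL2.data F).ind lam)) = 1) ∧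
    (fl lam ≠ (fl lam).comp sg → sw (fl lam) ≠ (sw (fl lam)).comp sg → fl lam = (sw (fl lam)).comp sg →
      classInner (I ((GL2.data F).ind lam)) (I ((GL2.data F).ind lam)) = 3) ∧
    (fl lam = (fl lam).comp sg → classInner (I ((GL2.data F).ind lam)) (I ((GL2.data F).ind lam)) = 2) := by
  classical
  have hirr := (GL2.data F).isIrr_ind h
  have hcf := isIrr_isClassFunction hirr
  have hne : fl lam ≠ sw (fl lam) := fun h' => h ((fl_eq_iff lam).2 h')
  have hX : X ((GL2.data F).ind lam) ((GL2.data F).ind lam) =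
      ((if fl lam = (fl lam).comp sg then 1 else 0) + (if sw (fl lam) = (fl lam).comp sg then 1 else 0)) +
      ((if fl lam = (sw (fl lam)).comp sg then 1 else 0) + (if sw (fl lam) = (sw (fl lam)).comp sg then 1 else 0)) := by
    rw [X_eq, J_ind, fl_wT']
    have e3 : ((fun z => (fl lam z : ℂ)) + fun z => (sw (fl lam) z : ℂ)) ∘ (sg : Fˣ × Fˣ →* Fˣ × Fˣ) =
        (fun z => (((fl lam).comp sg) z : ℂ)) + fun z => (((sw (fl lam)).comp sg) z : ℂ) := rfl
    rw [e3, classInner_add_right, classInner_add_left, classInner_add_left, inner_hom, inner_hom, inner_hom, inner_hom]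
  rw [inner_I hcf hcf, classInner_irr_self hirr, hX]
  refine ⟨fun h1 h2 h3 => ?_, fun h1 h2 h3 => ?_, fun h1 => ?_⟩
  · rw [if_neg h1, if_neg h2, if_neg h3, if_neg (fun h4 => h3 ((cycle_iff _).2 h4))]
    norm_num
  · rw [if_neg h1, if_neg h2, if_pos h3, if_pos ((cycle_iff _).1 h3)]
    norm_num
  · have h2 : fl lam ≠ (sw (fl lam)).comp sg := by
      intro h2
      apply hne
      rw [comp_sg_iff] at h1 h2
      exact h1.symm.trans h2
    have h3 : sw (fl lam) ≠ (sw (fl lam)).comp sg := by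
      intro h3
      rw [fix_sg_iff] at h1 h3
      apply hne
      ext ⟨a, b⟩
      have k1 : ((a, b) : Fˣ × Fˣ) = (a, 1) * (1, b) := by simp
      have k2 : fl lam (a, 1) = 1 := h3 a
      have k3 : fl lam (b, 1) = 1 := h3 b
      have k4 : ((b, a) : Fˣ × Fˣ) = (b, 1) * (1, a) := by simp
      rw [sw_apply]
      simp only [Prod.swap_prod_mk]
      rw [k1, k4, map_mul, map_mul, k2, k3, h1, h1]
    rw [if_pos h1, if_neg h2, if_neg h3, if_neg (fun h4 => h2 ((cycle_iff _).2 h4))]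
    norm_num

end inner

/-! ### Orders -/

omit [Fintype F] in
theorem mem_ker_pi {t : P F} : t ∈ (pi : P F →* GL (Fin 2) F).ker ↔
    ((t : _root_.Matrix.SpecialLinearGroup (Fin 3) F) : Matrix (Fin 3) (Fin 3) F) 0 0 = 1 ∧
    ((t : _root_.Matrix.SpecialLinearGroup (Fin 3) F) : Matrix (Fin 3) (Fin 3) F) 0 1 = 0 ∧
    ((t : _root_.Matrix.SpecialLinearGroup (Fin 3) F) : Matrix (Fin 3) (Fin 3) F) 1 0 = 0 ∧
    ((t : _root_.Matrix.SpecialLinearGroup (Fin 3) F) : Matrix (Fin 3) (Fin 3) F) 1 1 = 1 := by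
  rw [MonoidHom.mem_ker, pi_apply]
  constructor
  · intro h
    refine ⟨?_, ?_, ?_, ?_⟩
    · have := congrArg GL2.e00 h
      rw [GL2.mk00] at this
      rw [this]; simp [GL2.e00]
    · have := congrArg GL2.e01 h
      rw [GL2.mk01] at this
      rw [this]; simp [GL2.e01]
    · have := congrArg GL2.e10 h
      rw [GL2.mk10] at this
      rw [this]; simp [GL2.e10]
    · have := congrArg GL2.e11 h
      rw [GL2.mk11] at this
      rw [this]; simp [GL2.e11]
  · rintro ⟨h1, h2, h3, h4⟩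
    apply GL2.ext4
    · rw [GL2.mk00, h1]; simp [GL2.e00]
    · rw [GL2.mk01, h2]; simp [GL2.e01]
    · rw [GL2.mk10, h3]; simp [GL2.e10]
    · rw [GL2.mk11, h4]; simp [GL2.e11]

/-- the elements of the unipotent radical -/
def ur (z : F × F) : _root_.Matrix.SpecialLinearGroup (Fin 3) F :=
  ⟨!![1, 0, z.1; 0, 1, z.2; 0, 0, 1], by rw [det_fin_three]; simp⟩

omit [Fintype F] in
theorem coe_ur (z : F × F) : ((ur z : _root_.Matrix.SpecialLinearGroup (Fin 3) F) : Matrix (Fin 3) (Fin 3) F) =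
    !![1, 0, z.1; 0, 1, z.2; 0, 0, 1] := rfl

omit [Fintype F] in
theorem ur_mem (z : F × F) : (ur z : _root_.Matrix.SpecialLinearGroup (Fin 3) F) ∈ P F := ⟨rfl, rfl⟩

/-- the parametrisation of the unipotent radical -/
noncomputable def urE (F : Type v) [Field F] : F × F ≃ (pi : P F →* GL (Fin 2) F).ker :=
  Equiv.ofBijective (fun z => ⟨⟨ur z, ur_mem z⟩, mem_ker_pi.2 ⟨rfl, rfl, rfl, rfl⟩⟩) (by
    constructor
    · rintro ⟨x, y⟩ ⟨x', y'⟩ h
      have h1 : ur (x, y) = ur (x', y') := congrArg (fun z => ((z : P F) : _root_.Matrix.SpecialLinearGroup (Fin 3) F))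
        (congrArg Subtype.val h)
      have h2 := congrArg (fun z : _root_.Matrix.SpecialLinearGroup (Fin 3) F => (z : Matrix (Fin 3) (Fin 3) F)) h1
      simp only [coe_ur] at h2
      have h02 := congrFun (congrFun h2 0) 2
      have h12 := congrFun (congrFun h2 1) 2
      simp at h02 h12
      rw [h02, h12]
    · rintro ⟨t, ht⟩
      obtain ⟨h1, h2, h3, h4⟩ := mem_ker_pi.1 ht
      have hdet := det3 (t : _root_.Matrix.SpecialLinearGroup (Fin 3) F)
      have h5 := t.2.1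
      have h6 := t.2.2
      have h7 : ((t : _root_.Matrix.SpecialLinearGroup (Fin 3) F) : Matrix (Fin 3) (Fin 3) F) 2 2 = 1 := by
        refine Eq.trans ?_ hdet
        rw [h1, h2, h3, h4, h5, h6]; ring
      refine ⟨(((t : _root_.Matrix.SpecialLinearGroup (Fin 3) F) : Matrix (Fin 3) (Fin 3) F) 0 2,
        ((t : _root_.Matrix.SpecialLinearGroup (Fin 3) F) : Matrix (Fin 3) (Fin 3) F) 1 2), ?_⟩
      apply Subtype.ext
      apply Subtype.ext
      apply Subtype.ext
      change ((ur _ : _root_.Matrix.SpecialLinearGroup (Fin 3) F) : Matrix (Fin 3) (Fin 3) F) = _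
      rw [coe_ur]
      ext i j
      fin_cases i <;> fin_cases j
      · exact h1.symm
      · exact h2.symm
      · rfl
      · exact h3.symm
      · exact h4.symm
      · rfl
      · exact h5.symm
      · exact h6.symm
      · exact h7.symm)

theorem card_ker_pi : Nat.card (pi : P F →* GL (Fin 2) F).ker = Fintype.card F ^ 2 := by
  rw [← Nat.card_congr (urE F), Nat.card_prod, Nat.card_eq_fintype_card, pow_two]

theorem card_P : Nat.card (P F) = Fintype.card F ^ 2 * Nat.card (GL (Fin 2) F) := by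
  rw [Subgroup.card_eq_card_quotient_mul_card_subgroup (pi : P F →* GL (Fin 2) F).ker, card_ker_pi,
    Nat.card_congr (QuotientGroup.quotientKerEquivOfSurjective _ pi_surj).toEquiv, mul_comm]

theorem card_GL2 : Nat.card (GL (Fin 2) F) = (Fintype.card F ^ 2 - 1) * (Fintype.card F ^ 2 - Fintype.card F) := by
  rw [Matrix.card_GL_field, Fin.prod_univ_two]
  simp only [_root_.Fin.isValue, _root_.Fin.coe_ofNat_eq_mod, _root_.Nat.zero_mod, _root_.pow_zero, _root_.Nat.mod_succ, _root_.pow_one]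

theorem card_SL3 : Nat.card (_root_.Matrix.SpecialLinearGroup (Fin 3) F) =
    Fintype.card F ^ 3 * (Fintype.card F ^ 2 - 1) * (Fintype.card F ^ 3 - 1) := by
  have h := S0242.result (F := F) rfl 3 (by norm_num)
  have h1 := Fintype.one_lt_card (α := F)
  obtain ⟨r, hr⟩ : ∃ r, Fintype.card F = r + 2 := ⟨Fintype.card F - 2, by omega⟩
  rw [Fin.prod_univ_three] at h
  rw [hr] at h ⊢
  refine Nat.eq_of_mul_eq_mul_left (show 0 < r + 2 - 1 by omega) (h.trans ?_)
  have e1 : r + 2 - 1 = r + 1 := by omega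
  have e2 : (r + 2) ^ 3 - (r + 2) ^ ((0 : Fin 3) : ℕ) = (r + 2) ^ 3 - 1 := by simp only [_root_.Fin.isValue, _root_.Fin.coe_ofNat_eq_mod, _root_.Nat.zero_mod, _root_.pow_zero]
  have e3 : (r + 2) ^ 3 - (r + 2) ^ ((1 : Fin 3) : ℕ) = (r + 2) * ((r + 2) ^ 2 - 1) := by
    rw [Nat.mul_sub]
    congr 1
    · ring
    · simp
  have e4 : (r + 2) ^ 3 - (r + 2) ^ ((2 : Fin 3) : ℕ) = (r + 2) ^ 2 * (r + 1) := by
    have : (r + 2) ^ 3 = (r + 2) ^ 2 * (r + 1) + (r + 2) ^ 2 := by ring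
    simp only [Fin.val_two]
    omega
  rw [e1, e2, e3, e4]
  ring

theorem index_P : (P F).index = Fintype.card F ^ 2 + Fintype.card F + 1 := by
  have h := (P F).index_mul_card
  rw [card_P, card_GL2, card_SL3] at h
  have h1 := Fintype.one_lt_card (α := F)
  obtain ⟨r, hr⟩ : ∃ r, Fintype.card F = r + 2 := ⟨Fintype.card F - 2, by omega⟩
  rw [hr] at h ⊢
  have e1 : (r + 2) ^ 2 - 1 = (r + 1) * (r + 3) := by
    have : (r + 2) ^ 2 = (r + 1) * (r + 3) + 1 := by ring
    omega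
  have e2 : (r + 2) ^ 2 - (r + 2) = (r + 2) * (r + 1) := by
    have : (r + 2) ^ 2 = (r + 2) * (r + 1) + (r + 2) := by ring
    omega
  have e3 : (r + 2) ^ 3 - 1 = (r + 1) * ((r + 2) ^ 2 + (r + 2) + 1) := by
    have : (r + 2) ^ 3 = (r + 1) * ((r + 2) ^ 2 + (r + 2) + 1) + 1 := by ring
    omega
  rw [e1, e2, e3] at h
  have h2 : 0 < (r + 2) ^ 2 * ((r + 1) * (r + 3) * ((r + 2) * (r + 1))) := by (clear * -; positivity)
  refine Nat.eq_of_mul_eq_mul_right h2 (h.trans ?_)
  ring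

section deg

variable [Fintype Fˣ] [Fintype (_root_.Matrix.SpecialLinearGroup (Fin 3) F)] [Fintype (GL (Fin 2) F)]

theorem I_one (Ψ : GL (Fin 2) F → ℂ) : I Ψ 1 = ((Fintype.card F : ℂ) ^ 2 + Fintype.card F + 1) * Ψ 1 := by
  unfold I
  rw [indFun_one, index_P, Function.comp_apply, map_one]
  push_cast
  ring

/-- the value at a scalar -/
theorem I_scalar (Ψ : GL (Fin 2) F → ℂ) {z : _root_.Matrix.SpecialLinearGroup (Fin 3) F}
    (hz : z ∈ Subgroup.center (_root_.Matrix.SpecialLinearGroup (Fin 3) F)) (hzP : z ∈ P F) (h : Ψ (pi ⟨z, hzP⟩) = Ψ 1) :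
    I Ψ z = I Ψ 1 := by
  classical
  unfold I
  rw [Core.indFun_apply, Core.indFun_apply]
  congr 1
  refine Finset.sum_congr rfl fun x _ => ?_
  have e1 : x⁻¹ * z * x = z := by
    rw [mul_assoc, ← Subgroup.mem_center_iff.1 hz x]
    group
  have e2 : x⁻¹ * 1 * x = 1 := by group
  rw [e1, e2, ext_apply_mem _ _ _ hzP, ext_apply_mem _ _ _ (P F).one_mem]
  rw [Function.comp_apply, h]
  exact congrArg Ψ (map_one pi).symm

end deg

end Cfsg.Agent.H612.Deg3
end

-- part: H612/Deg3/Series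
section
/-!
# The constituents of the characters of `SL_3(q)` induced from a maximal parabolic subgroup (helper612)
-/

set_option autoImplicit false
set_option linter.unusedSectionVars false
set_option linter.unusedSimpArgs false

open scoped ComplexConjugate
open Cfsg Matrix

namespace Cfsg.Agent.H612.Deg3

open Cfsg.Agent.Characters Cfsg.Agent.Characters.Core Cfsg.Agent.OddOrderCharacters.Clifford Cfsg.Agent.H53.HC
  Cfsg.Agent.H627.Gow Cfsg.Agent.H670 Cfsg.Agent.H670.RankOne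

universe u v

variable {F : Type v} [Field F] [Fintype F] [Fintype Fˣ] [Fintype (_root_.Matrix.SpecialLinearGroup (Fin 3) F)]
  [Fintype (GL (Fin 2) F)]

/-- the degrees by the fixed vectors of the unipotent subgroup -/
theorem deg_cf {Ψ : GL (Fin 2) F → ℂ} (hΨ : IsIrrCharacter _ Ψ) :
    ((GL2.data F).cf Ψ 0 = 0 → Ψ 1 = (Fintype.card F : ℂ) - 1) ∧
    ((GL2.data F).cf Ψ 0 = 1 → Ψ 1 = 1 ∨ Ψ 1 = (Fintype.card F : ℂ)) ∧
    ((GL2.data F).cf Ψ 0 = 2 → Ψ 1 = (Fintype.card F : ℂ) + 1) := by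
  have h1 := (GL2.data F).degree_eq ⟨Ψ, hΨ⟩
  have h2 := (GL2.data F).types_surj GL2.hasAnti GL2.a_surj ⟨Ψ, hΨ⟩
  simp only [Finset.mem_insert, Finset.mem_singleton, Prod.mk.injEq] at h2
  have h3 : Ψ 1 = ((∑ c : F, (GL2.data F).n ⟨Ψ, hΨ⟩ c : ℕ) : ℂ) := h1
  have hpos : 1 ≤ Fintype.card F := Fintype.card_pos
  rw [(GL2.data F).sum_n_eq GL2.a_surj, Nat.cast_add, Nat.cast_mul, Nat.cast_sub hpos] at h3
  have h4 : (GL2.data F).cf Ψ 0 = ((GL2.data F).n ⟨Ψ, hΨ⟩ 0 : ℂ) := (GL2.data F).cf_eq_n ⟨Ψ, hΨ⟩ 0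
  rw [h4]
  rcases h2 with ⟨a1, a2⟩ | ⟨a1, a2⟩ | ⟨a1, a2⟩ | ⟨a1, a2⟩ <;> rw [a1, a2] at h3 <;> rw [a1] <;>
    push_cast at h3 <;> refine ⟨fun h => ?_, fun h => ?_, fun h => ?_⟩ <;> first
      | (exfalso; norm_num at h; done)
      | linear_combination h3
      | (left; linear_combination h3)
      | (right; linear_combination h3)

/-- the constituents of `ind mu`, `mu` invariant -/
theorem half_J {mu : (GL2.data F).T →* ℂˣ} (hmu : mu = mu.comp (GL2.data F).wT) {Ψ : GL (Fin 2) F → ℂ}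
    (hΨ : IsIrrCharacter _ Ψ) (h : classInner Ψ ((GL2.data F).ind mu) ≠ 0) :
    (J Ψ = fun z => (fl mu z : ℂ)) ∧ (GL2.data F).cf Ψ 0 = 1 := by
  classical
  have : Fintype (GL2.data F).T := Fintype.ofFinite _
  rw [(GL2.data F).classInner_ind (isIrr_isClassFunction hΨ)] at h
  rcases (GL2.data F).trichotomy hΨ with h0 | ⟨h1, lam, hlam, hj, -⟩ | ⟨-, lam, hlam, rfl⟩
  · exfalso
    apply h
    have h1 : (GL2.data F).jac Ψ = 0 := by
      funext t
      obtain ⟨z, rfl⟩ := GL2.exists_tt t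
      exact congrFun (J_cusp hΨ h0) z
    rw [h1, classInner_zero_left]
  · refine ⟨?_, h1⟩
    have h2 : (GL2.data F).jac Ψ = fun t => (lam t : ℂ) := funext hj
    rw [h2, inner_hom] at h
    split_ifs at h with h3
    · subst h3
      funext z
      exact hj _
    · exact absurd rfl h
  · exfalso
    rw [← (GL2.data F).classInner_ind (isIrr_isClassFunction hΨ), Data.inner_ind] at h
    rw [← hmu] at h
    by_cases h3 : lam = mu
    · rw [h3] at hlam
      exact hlam hmu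
    · rw [if_neg h3, add_zero] at h
      exact h rfl

theorem X_eq_zero_left {Ψ Φ : GL (Fin 2) F → ℂ} (h : J Ψ = 0) : X Ψ Φ = 0 := by
  rw [X_eq, h, classInner_zero_left]

/-- a cuspidal character of `GL_2` induces irreducibly -/
theorem norm_cusp {Ψ : GL (Fin 2) F → ℂ} (hΨ : IsIrrCharacter _ Ψ) (h : (GL2.data F).cf Ψ 0 = 0) :
    classInner (I Ψ) (I Ψ) = 1 := by
  rw [inner_I (isIrr_isClassFunction hΨ) (isIrr_isClassFunction hΨ), classInner_irr_self hΨ,
    X_eq_zero_left (J_cusp hΨ h), add_zero]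

/-- the norm in the half case -/
theorem norm_half {Ψ : GL (Fin 2) F → ℂ} (hΨ : IsIrrCharacter _ Ψ) {f : Fˣ × Fˣ →* ℂˣ}
    (hJ : J Ψ = fun z => (f z : ℂ)) (hf : f ≠ f.comp sg) : classInner (I Ψ) (I Ψ) = 1 := by
  classical
  rw [inner_I (isIrr_isClassFunction hΨ) (isIrr_isClassFunction hΨ), classInner_irr_self hΨ,
    X_hom hJ hJ, if_neg hf, add_zero]

/-! ### The centre -/

theorem gl2_scalar_comm (c : Fˣ) (g : GL (Fin 2) F) : GL2.tor (c, c) * g = g * GL2.tor (c, c) := by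
  apply GL2.ext4 <;> simp only [GL2.mul00, GL2.mul01, GL2.mul10, GL2.mul11, GL2.tor00, GL2.tor01, GL2.tor10, GL2.tor11,
    mul_comm, _root_.MulZeroClass.zero_mul, _root_.add_zero, _root_.zero_add]

theorem ind_scalar {lam : (GL2.data F).T →* ℂˣ} (h : ∀ c, fl lam (c, c) = 1) (c : Fˣ) :
    (GL2.data F).ind lam (GL2.tor (c, c)) = (GL2.data F).ind lam 1 := by
  have h1 := (GL2.data F).ind_central_mul lam (z := GL2.tt (c, c)) (fun g => by
    rw [GL2.tt_coe]; exact gl2_scalar_comm c g) 1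
  rw [mul_one, GL2.tt_coe] at h1
  rw [h1, ← fl_apply, h, Units.val_one, one_mul]

/-- the centre is in the kernel -/
def ZT (χ : _root_.Matrix.SpecialLinearGroup (Fin 3) F → ℂ) : Prop :=
  ∀ z ∈ Subgroup.center (_root_.Matrix.SpecialLinearGroup (Fin 3) F), χ z = χ 1

theorem zt_I {Ψ : GL (Fin 2) F → ℂ} (h : ∀ c, Ψ (GL2.tor (c, c)) = Ψ 1) : ZT (I Ψ) := by
  intro z hz
  obtain ⟨r, hr, hz'⟩ := Matrix.SpecialLinearGroup.mem_center_iff.1 hz
  have hr0 : r ≠ 0 := by
    rintro rfl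
    simp at hr
  have e : ∀ i j, (z : Matrix (Fin 3) (Fin 3) F) i j = if i = j then r else 0 := by
    intro i j
    rw [← hz', Matrix.scalar_apply, Matrix.diagonal_apply]
  have hzP : z ∈ P F := ⟨by rw [e]; simp, by rw [e]; simp⟩
  refine I_scalar Ψ hz hzP ?_
  rw [← h (Units.mk0 r hr0)]
  congr 1
  rw [pi_apply]
  apply GL2.ext4
  · rw [GL2.mk00, GL2.tor00]
    change (z : Matrix (Fin 3) (Fin 3) F) 0 0 = r
    rw [e]; simp
  · rw [GL2.mk01, GL2.tor01]
    change (z : Matrix (Fin 3) (Fin 3) F) 0 1 = 0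
    rw [e]; simp
  · rw [GL2.mk10, GL2.tor10]
    change (z : Matrix (Fin 3) (Fin 3) F) 1 0 = 0
    rw [e]; simp
  · rw [GL2.mk11, GL2.tor11]
    change (z : Matrix (Fin 3) (Fin 3) F) 1 1 = r
    rw [e]; simp

theorem zt_constituent {Θ χ : _root_.Matrix.SpecialLinearGroup (Fin 3) F → ℂ} (hΘ : IsCharacter _ Θ) (hχ : IsIrrCharacter _ χ)
    (h : classInner χ Θ ≠ 0) (hz : ZT Θ) : ZT χ := fun z hz' =>
  OddOrderCharacters.PF9.CliffGen.constituent_ker hΘ hχ (by
    intro h0
    apply h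
    rw [← classInner_conj_symm, h0, map_zero]) (hz z hz')

/-! ### The principal block case: `1` and the Steinberg character -/

theorem J_one : J (1 : GL (Fin 2) F → ℂ) = fun z => (((1 : Fˣ × Fˣ →* ℂˣ) z : ℂˣ) : ℂ) := by
  funext z
  have hF : (Fintype.card F : ℂ) ≠ 0 := Nat.cast_ne_zero.2 Fintype.card_ne_zero
  simp [J, Data.jac_def, hF]

theorem classInner_one_I (Ψ : GL (Fin 2) F → ℂ) : classInner (I Ψ) 1 = classInner Ψ 1 := by
  classical
  have : Fintype (P F) := Fintype.ofFinite _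
  unfold I
  rw [classInner_indFun (P F) _ _ (isIrr_isClassFunction isIrr_one)]
  exact classInner_comp_surj pi pi_surj Ψ 1

theorem norm_I_one : classInner (I (1 : GL (Fin 2) F → ℂ)) (I 1) = 2 := by
  classical
  rw [inner_I (isIrr_isClassFunction isIrr_one) (isIrr_isClassFunction isIrr_one), classInner_irr_self isIrr_one,
    X_hom J_one J_one, if_pos (by ext z; simp)]
  norm_num

/-- the permutation character -/
theorem exists_perm : ∃ χ₀ : _root_.Matrix.SpecialLinearGroup (Fin 3) F → ℂ, IsIrrCharacter _ χ₀ ∧ I 1 = 1 + χ₀ ∧ χ₀ ≠ 1 ∧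
    χ₀ 1 = (Fintype.card F : ℂ) ^ 2 + Fintype.card F := by
  obtain ⟨μ, ν, hμ, hν, hne, hsum⟩ := HKS.exists_add_of_norm_two (isCharacter_I (isCharacter_one (G := GL (Fin 2) F)))
    norm_I_one
  have h1 : classInner (I (1 : GL (Fin 2) F → ℂ)) 1 = 1 := by
    rw [classInner_one_I, classInner_irr_self isIrr_one]
  have h2 : μ = 1 ∨ ν = 1 := by
    by_contra hc
    push Not at hc
    rw [hsum, classInner_add_left, classInner_irr_ne hμ isIrr_one hc.1, classInner_irr_ne hν isIrr_one hc.2] at h1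
    norm_num at h1
  have h3 := I_one (F := F) 1
  rcases h2 with rfl | rfl
  · refine ⟨ν, hν, hsum, hne.symm, ?_⟩
    rw [hsum] at h3
    simp only [Pi.add_apply, Pi.one_apply] at h3
    linear_combination h3
  · refine ⟨μ, hμ, by rw [hsum, add_comm], hne, ?_⟩
    rw [hsum] at h3
    simp only [Pi.add_apply, Pi.one_apply] at h3
    linear_combination h3

/-- the Steinberg character of `GL_2` -/
theorem st_cases {Ψ : GL (Fin 2) F → ℂ} (hΨ : IsIrrCharacter _ Ψ) (hne : Ψ ≠ 1)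
    (hJ : J Ψ = fun z => (((1 : Fˣ × Fˣ →* ℂˣ) z : ℂˣ) : ℂ)) (hq : Ψ 1 = (Fintype.card F : ℂ))
    {χ : _root_.Matrix.SpecialLinearGroup (Fin 3) F → ℂ} (hχ : IsIrrCharacter _ χ) (h : classInner χ (I Ψ) ≠ 0) :
    χ 1 = (Fintype.card F : ℂ) ^ 2 + Fintype.card F ∨ χ 1 = (Fintype.card F : ℂ) ^ 3 := by
  classical
  obtain ⟨χ₀, h0, hs0, hn0, hd0⟩ := exists_perm (F := F)
  have hnorm : classInner (I Ψ) (I Ψ) = 2 := by
    rw [inner_I (isIrr_isClassFunction hΨ) (isIrr_isClassFunction hΨ), classInner_irr_self hΨ, X_hom hJ hJ,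
      if_pos (by ext z; simp)]
    norm_num
  obtain ⟨μ, ν, hμ, hν, hne', hsum⟩ := HKS.exists_add_of_norm_two (isCharacter_I (isIrr_isCharacter hΨ)) hnorm
  have h1 : classInner (I Ψ) (I 1) = 1 := by
    rw [inner_I (isIrr_isClassFunction hΨ) (isIrr_isClassFunction isIrr_one), classInner_irr_ne hΨ isIrr_one hne,
      X_hom hJ J_one, if_pos (by ext z; simp), zero_add]
  have h2 : classInner (I Ψ) 1 = 0 := by rw [classInner_one_I, classInner_irr_ne hΨ isIrr_one hne]
  rw [hs0, classInner_add_right, h2, zero_add] at h1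
  have h3 : μ = χ₀ ∨ ν = χ₀ := by
    by_contra hc
    push Not at hc
    rw [hsum, classInner_add_left, classInner_irr_ne hμ h0 hc.1, classInner_irr_ne hν h0 hc.2] at h1
    norm_num at h1
  have h4 : χ = μ ∨ χ = ν := by
    by_contra hc
    push Not at hc
    apply h
    rw [hsum, classInner_add_right, classInner_irr_ne hχ hμ hc.1, classInner_irr_ne hχ hν hc.2, add_zero]
  have h5 := I_one (F := F) Ψ
  rw [hsum, hq, Pi.add_apply] at h5
  rcases h3 with rfl | rfl <;> rcases h4 with rfl | rfl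
  · exact Or.inl hd0
  · right
    rw [hd0] at h5
    linear_combination h5
  · right
    rw [hd0] at h5
    linear_combination h5
  · exact Or.inl hd0

/-! ### The principal series -/

/-- the principal series with a character fixed by a second reflection -/
theorem ps_fixed {lam : (GL2.data F).T →* ℂˣ} (hlam : lam ≠ lam.comp (GL2.data F).wT)
    (hf : fl lam = (fl lam).comp sg) {χ : _root_.Matrix.SpecialLinearGroup (Fin 3) F → ℂ} (hχ : IsIrrCharacter _ χ)
    (h : classInner χ (I ((GL2.data F).ind lam)) ≠ 0) :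
    χ 1 = (Fintype.card F : ℂ) ^ 2 + Fintype.card F + 1 ∨
      χ 1 = (Fintype.card F : ℂ) * ((Fintype.card F : ℂ) ^ 2 + Fintype.card F + 1) := by
  classical
  have hΨ := (GL2.data F).isIrr_ind hlam
  have hne : fl lam ≠ sw (fl lam) := fun h' => hlam ((fl_eq_iff lam).2 h')
  have hfix := (fix_sg_iff _).1 hf
  -- the inverse of the first component
  let α : Fˣ →* ℂˣ := ((fl lam).comp (MonoidHom.inl Fˣ Fˣ))⁻¹
  have hα : ∀ a, α a = (fl lam (a, 1))⁻¹ := fun a => rfl
  have hfl : ∀ a b, fl lam (a, b) = (α a)⁻¹ := by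
    intro a b
    have : ((a, b) : Fˣ × Fˣ) = (a, 1) * (1, b) := by simp
    rw [this, map_mul, hfix, mul_one, hα, inv_inv]
  let mu := GL2.lamE F (α, α)
  have hmu : mu = mu.comp (GL2.data F).wT := (GL2.lamE_invariant_iff (α, α)).2 rfl
  have hmuf : ∀ a b, fl mu (a, b) = α a * α b := fun a b => GL2.lamE_tt (α, α) (a, b)
  have key : (fl mu).comp sg = sw (fl lam) := by
    ext ⟨a, b⟩
    rw [MonoidHom.comp_apply, sg_apply, sw_apply]
    simp only [Prod.swap_prod_mk]
    rw [hmuf, hfl, map_inv, map_mul, _root_.mul_inv_rev, mul_comm (α b)⁻¹, mul_inv_cancel_left]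
  have hmuw : fl mu = sw (fl mu) := (fl_eq_iff mu).1 hmu
  have hmune : fl mu ≠ (fl mu).comp sg := by
    intro h'
    rw [key] at h'
    apply hne
    have h2 := congrArg sw h'
    rw [← hmuw, sw_sw] at h2
    rw [← h2, ← hmuw]
  obtain ⟨Ψ₁, Ψ₂, h1, h2, h12, hsum⟩ := (GL2.data F).exists_ind_eq_add hmu
  have i1 : classInner Ψ₁ ((GL2.data F).ind mu) ≠ 0 := by
    rw [hsum, classInner_add_right, classInner_irr_self h1, classInner_irr_ne h1 h2 h12, add_zero]
    exact one_ne_zero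
  have i2 : classInner Ψ₂ ((GL2.data F).ind mu) ≠ 0 := by
    rw [hsum, classInner_add_right, classInner_irr_self h2, classInner_irr_ne h2 h1 h12.symm, zero_add]
    exact one_ne_zero
  obtain ⟨j1, c1⟩ := half_J hmu h1 i1
  obtain ⟨j2, c2⟩ := half_J hmu h2 i2
  -- the inner products with the principal series
  have hX : ∀ Φ : GL (Fin 2) F → ℂ, J Φ = (fun z => (fl mu z : ℂ)) → X ((GL2.data F).ind lam) Φ = 1 := by
    intro Φ hΦ
    rw [X_eq, J_ind, fl_wT', hΦ]
    have e3 : (fun z => (fl mu z : ℂ)) ∘ (sg : Fˣ × Fˣ →* Fˣ × Fˣ) = fun z => (((fl mu).comp sg) z : ℂ) := rfl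
    rw [e3, key, classInner_add_left, inner_hom, inner_hom, if_neg hne, if_pos rfl, zero_add]
  have hneΨ : ∀ Φ : GL (Fin 2) F → ℂ, J Φ = (fun z => (fl mu z : ℂ)) → (GL2.data F).ind lam ≠ Φ := by
    rintro Φ hΦ rfl
    have h3 := J_ind lam
    rw [hΦ] at h3
    have h4 := congrFun h3 1
    simp only [Pi.add_apply, map_one, Units.val_one] at h4
    norm_num at h4
  have hin : ∀ Φ : GL (Fin 2) F → ℂ, IsIrrCharacter _ Φ → J Φ = (fun z => (fl mu z : ℂ)) →
      classInner (I ((GL2.data F).ind lam)) (I Φ) ≠ 0 := by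
    intro Φ hΦ hJ
    rw [inner_I (isIrr_isClassFunction hΨ) (isIrr_isClassFunction hΦ), hX Φ hJ, classInner_irr_ne hΨ hΦ (hneΨ Φ hJ),
      zero_add]
    exact one_ne_zero
  have n1 := norm_half h1 j1 hmune
  have n2 := norm_half h2 j2 hmune
  have r1 := isIrr_of_classInner_self (isCharacter_I (isIrr_isCharacter h1)) n1
  have r2 := isIrr_of_classInner_self (isCharacter_I (isIrr_isCharacter h2)) n2
  have r12 : I Ψ₁ ≠ I Ψ₂ := by
    intro h'
    have h3 : classInner (I Ψ₁) (I Ψ₂) = 0 := by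
      rw [inner_I (isIrr_isClassFunction h1) (isIrr_isClassFunction h2), classInner_irr_ne h1 h2 h12,
        X_hom j1 j2, if_neg hmune, add_zero]
    rw [← h', n1] at h3
    exact one_ne_zero h3
  have hdeg : ∀ Φ : GL (Fin 2) F → ℂ, IsIrrCharacter _ Φ → (GL2.data F).cf Φ 0 = 1 →
      (I Φ 1 = (Fintype.card F : ℂ) ^ 2 + Fintype.card F + 1 ∨
      I Φ 1 = (Fintype.card F : ℂ) * ((Fintype.card F : ℂ) ^ 2 + Fintype.card F + 1)) := by
    intro Φ hΦ hc
    rcases (deg_cf hΦ).2.1 hc with h3 | h3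
    · left; rw [I_one, h3, mul_one]
    · right; rw [I_one, h3, mul_comm]
  rcases eq_of_norm_two (isCharacter_I (isIrr_isCharacter hΨ)) hχ h ((norm_ps hlam).2.2 hf) r1 r2 r12 (hin Ψ₁ h1 j1)
    (hin Ψ₂ h2 j2) with rfl | rfl
  · exact hdeg Ψ₁ h1 c1
  · exact hdeg Ψ₂ h2 c2

/-- the cubic principal series -/
def Cubic (χ : _root_.Matrix.SpecialLinearGroup (Fin 3) F → ℂ) : Prop :=
  ∃ lam : (GL2.data F).T →* ℂˣ, lam ≠ lam.comp (GL2.data F).wT ∧ fl lam ≠ (fl lam).comp sg ∧
    sw (fl lam) ≠ (sw (fl lam)).comp sg ∧ fl lam = (sw (fl lam)).comp sg ∧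
    classInner χ (I ((GL2.data F).ind lam)) ≠ 0

/-! ### The size of the field -/

omit [Fintype Fˣ] [Fintype (_root_.Matrix.SpecialLinearGroup (Fin 3) F)] [Fintype (GL (Fin 2) F)] in
theorem card_units_eq : Nat.card Fˣ = Fintype.card F - 1 := by
  classical
  rw [← Fintype.card_units]
  exact @Nat.card_eq_fintype_card _ _

omit [Fintype Fˣ] [Fintype (_root_.Matrix.SpecialLinearGroup (Fin 3) F)] [Fintype (GL (Fin 2) F)] in
theorem three_le_of_ne {f g : Fˣ × Fˣ →* ℂˣ} (h : f ≠ g) : 3 ≤ Fintype.card F := by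
  by_contra hcon
  have h1 := Fintype.one_lt_card (α := F)
  have h2 : Nat.card Fˣ = 1 := by rw [card_units_eq]; omega
  have h3 : Subsingleton Fˣ := (Nat.card_eq_one_iff_unique.1 h2).1
  apply h
  refine MonoidHom.ext fun z => ?_
  have h4 : z = 1 := Subsingleton.elim _ _
  rw [h4, map_one, map_one]

theorem five_le {f : Fˣ × Fˣ →* ℂˣ} (h0 : f ≠ sw f) (h1 : f ≠ f.comp sg) (h2 : sw f ≠ (sw f).comp sg)
    (h3 : f ≠ (sw f).comp sg) : 5 ≤ Fintype.card F := by
  obtain ⟨g, hg⟩ := IsCyclic.exists_generator (α := Fˣ)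
  have hf : ∀ m n : ℤ, f (g ^ m, g ^ n) = f (g, 1) ^ m * f (1, g) ^ n := by
    intro m n
    rw [← map_zpow, ← map_zpow, ← map_mul]
    congr 1
    simp
  have hα : f (g, 1) ≠ 1 := by
    intro h
    apply h2
    rw [fix_sg_iff]
    intro c
    obtain ⟨m, rfl⟩ := Subgroup.mem_zpowers_iff.1 (hg c)
    have := hf m 0
    rw [_root_.zpow_zero, _root_.zpow_zero, h, _root_.one_zpow, mul_one] at this
    exact this
  have hβ : f (1, g) ≠ 1 := by
    intro h
    apply h1
    rw [fix_sg_iff]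
    intro c
    obtain ⟨m, rfl⟩ := Subgroup.mem_zpowers_iff.1 (hg c)
    have := hf 0 m
    rw [_root_.zpow_zero, _root_.zpow_zero, h, _root_.one_zpow, mul_one] at this
    exact this
  have hαβ : f (g, 1) ≠ f (1, g) := by
    intro h
    apply h0
    refine MonoidHom.ext fun z => ?_
    obtain ⟨a, b⟩ := z
    obtain ⟨m, rfl⟩ := Subgroup.mem_zpowers_iff.1 (hg a)
    obtain ⟨n, rfl⟩ := Subgroup.mem_zpowers_iff.1 (hg b)
    rw [sw_apply, hf]
    show _ = f (g ^ n, g ^ m)
    rw [hf, h, mul_comm]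
  have hgc : g ^ (Fintype.card F - 1) = 1 := by
    rw [← card_units_eq]
    exact pow_card_eq_one'
  have hαq : f (g, 1) ^ (Fintype.card F - 1) = 1 := by
    rw [← map_pow, ← map_one f]
    congr 1
    rw [Prod.pow_mk, hgc, one_pow]
    rfl
  have hβq : f (1, g) ^ (Fintype.card F - 1) = 1 := by
    rw [← map_pow, ← map_one f]
    congr 1
    rw [Prod.pow_mk, hgc, one_pow]
    rfl
  have hc := Fintype.one_lt_card (α := F)
  by_contra hcon
  have hα' : ((f (g, 1) : ℂˣ) : ℂ) ≠ 1 := fun h => hα (Units.ext h)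
  have hβ' : ((f (1, g) : ℂˣ) : ℂ) ≠ 1 := fun h => hβ (Units.ext h)
  have hαβ' : ((f (g, 1) : ℂˣ) : ℂ) ≠ ((f (1, g) : ℂˣ) : ℂ) := fun h => hαβ (Units.ext h)
  have hαq' := congrArg Units.val hαq
  have hβq' := congrArg Units.val hβq
  simp only [Units.val_pow_eq_pow_val, Units.val_one] at hαq' hβq'
  obtain hq | hq | hq : Fintype.card F - 1 = 1 ∨ Fintype.card F - 1 = 2 ∨ Fintype.card F - 1 = 3 := by omega
  · rw [hq, pow_one] at hαq'
    exact hα' hαq'
  · rw [hq] at hαq' hβq'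
    have k1 : (((f (g, 1) : ℂˣ) : ℂ) - 1) * (((f (g, 1) : ℂˣ) : ℂ) + 1) = 0 := by linear_combination hαq'
    have k2 : (((f (1, g) : ℂˣ) : ℂ) - 1) * (((f (1, g) : ℂˣ) : ℂ) + 1) = 0 := by linear_combination hβq'
    have k3 := (mul_eq_zero.1 k1).resolve_left (sub_ne_zero.2 hα')
    have k4 := (mul_eq_zero.1 k2).resolve_left (sub_ne_zero.2 hβ')
    exact hαβ' (by linear_combination k3 - k4)
  · rw [hq] at hαq' hβq'
    have k1 : (((f (g, 1) : ℂˣ) : ℂ) - 1) * (((f (g, 1) : ℂˣ) : ℂ) ^ 2 + ((f (g, 1) : ℂˣ) : ℂ) + 1) = 0 := by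
      linear_combination hαq'
    have k2 : (((f (1, g) : ℂˣ) : ℂ) - 1) * (((f (1, g) : ℂˣ) : ℂ) ^ 2 + ((f (1, g) : ℂˣ) : ℂ) + 1) = 0 := by
      linear_combination hβq'
    have k3 := (mul_eq_zero.1 k1).resolve_left (sub_ne_zero.2 hα')
    have k4 := (mul_eq_zero.1 k2).resolve_left (sub_ne_zero.2 hβ')
    have k5 : (((f (g, 1) : ℂˣ) : ℂ) - ((f (1, g) : ℂˣ) : ℂ)) *
        (((f (g, 1) : ℂˣ) : ℂ) + ((f (1, g) : ℂˣ) : ℂ) + 1) = 0 := by linear_combination k3 - k4
    have k6 := (mul_eq_zero.1 k5).resolve_left (sub_ne_zero.2 hαβ')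
    have k7 : f (g, 1) * f (1, g) = 1 := by
      apply Units.ext
      rw [Units.val_mul, Units.val_one]
      linear_combination ((f (g, 1) : ℂˣ) : ℂ) * k6 - k3
    have k8 : f (1, g) = (f (g, 1))⁻¹ := (inv_eq_of_mul_eq_one_right k7).symm
    have k9 : f (g, 1) ^ (3 : ℤ) = 1 := by
      rw [hq] at hαq
      exact_mod_cast hαq
    apply h3
    refine MonoidHom.ext fun z => ?_
    obtain ⟨a, b⟩ := z
    obtain ⟨m, rfl⟩ := Subgroup.mem_zpowers_iff.1 (hg a)
    obtain ⟨n, rfl⟩ := Subgroup.mem_zpowers_iff.1 (hg b)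
    rw [MonoidHom.comp_apply, sg_apply, sw_apply, hf]
    show _ = f ((g ^ m * g ^ n)⁻¹, g ^ m)
    rw [← _root_.zpow_add, ← _root_.zpow_neg, hf, k8, _root_.inv_zpow, _root_.inv_zpow, ← _root_.zpow_neg, ← _root_.zpow_neg, ← _root_.zpow_add, ← _root_.zpow_add]
    have e : m + -n = (-(m + n) + -m) + 3 * m := by ring
    rw [e, _root_.zpow_add, _root_.zpow_mul, k9, _root_.one_zpow, mul_one]

/-- **The noncuspidal characters.** -/
theorem noncusp_cases {χ : _root_.Matrix.SpecialLinearGroup (Fin 3) F → ℂ} (hχ : IsIrrCharacter _ χ) {Ψ : GL (Fin 2) F → ℂ}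
    (hΨ : IsIrrCharacter _ Ψ) (h : classInner χ (I Ψ) ≠ 0) :
    χ = 1 ∨
    (χ 1 = (Fintype.card F : ℂ) ^ 2 + Fintype.card F ∧ ZT χ) ∨
    (χ 1 = (Fintype.card F : ℂ) ^ 3 ∧ ZT χ) ∨
    (3 ≤ Fintype.card F ∧ χ 1 = (Fintype.card F : ℂ) ^ 2 + Fintype.card F + 1) ∨
    (3 ≤ Fintype.card F ∧ χ 1 = (Fintype.card F : ℂ) * ((Fintype.card F : ℂ) ^ 2 + Fintype.card F + 1)) ∨
    (5 ≤ Fintype.card F ∧
      χ 1 = ((Fintype.card F : ℂ) + 1) * ((Fintype.card F : ℂ) ^ 2 + Fintype.card F + 1)) ∨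
    χ 1 = ((Fintype.card F : ℂ) - 1) * ((Fintype.card F : ℂ) ^ 2 + Fintype.card F + 1) ∨
    (Cubic χ ∧ ZT χ) := by
  classical
  have hI := isCharacter_I (isIrr_isCharacter hΨ)
  rcases (GL2.data F).trichotomy hΨ with h0 | ⟨hc, lam, hlam, hj, Ψ', hΨ', hne, hc', hsum⟩ | ⟨hc, lam, hlam, rfl⟩
  · -- cuspidal
    have h1 := eq_of_norm_one hI hχ h (norm_cusp hΨ h0)
    right; right; right; right; right; right; left
    rw [h1, I_one, (deg_cf hΨ).1 h0]
    ring
  · have hJ : J Ψ = fun z => (fl lam z : ℂ) := funext fun z => hj _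
    by_cases hf : fl lam = (fl lam).comp sg
    · -- the trivial character of the torus
      have hf1 : fl lam = 1 := by
        have h1 := (fix_sg_iff _).1 hf
        have h2 := (fl_eq_iff lam).1 hlam
        ext ⟨a, b⟩
        have k1 : ((a, b) : Fˣ × Fˣ) = (a, 1) * (1, b) := by simp
        have k2 : fl lam (a, 1) = 1 := by
          rw [h2]
          exact h1 a
        rw [k1, map_mul, h1, k2]
        simp
      have hz : ZT (I Ψ) := by
        refine zt_I fun c => ?_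
        have h2 := ind_scalar (lam := lam) (fun c => by rw [hf1]; rfl) c
        refine OddOrderCharacters.PF9.CliffGen.constituent_ker ((GL2.data F).isCharacter_ind lam) hΨ ?_ h2
        rw [hsum, classInner_add_left, classInner_irr_self hΨ, classInner_irr_ne hΨ' hΨ hne.symm, add_zero]
        exact one_ne_zero
      have hzχ : ZT χ := zt_constituent hI hχ h hz
      by_cases h1 : Ψ = 1
      · subst h1
        obtain ⟨χ₀, h2, h3, -, h4⟩ := exists_perm (F := F)
        have h5 : χ = 1 ∨ χ = χ₀ := by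
          by_contra hc
          push Not at hc
          apply h
          rw [h3, classInner_add_right, classInner_irr_ne hχ isIrr_one hc.1, classInner_irr_ne hχ h2 hc.2, add_zero]
        rcases h5 with rfl | rfl
        · exact Or.inl rfl
        · exact Or.inr (Or.inl ⟨h4, hzχ⟩)
      · have hJ1 : J Ψ = fun z => (((1 : Fˣ × Fˣ →* ℂˣ) z : ℂˣ) : ℂ) := by rw [hJ, hf1]
        -- the trivial character is the other constituent
        have h2 : classInner (1 : GL (Fin 2) F → ℂ) ((GL2.data F).ind lam) ≠ 0 := by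
          have : Fintype (GL2.data F).T := Fintype.ofFinite _
          rw [(GL2.data F).classInner_ind (isIrr_isClassFunction isIrr_one)]
          have e1 : (GL2.data F).jac (1 : GL (Fin 2) F → ℂ) = fun t => ((lam t : ℂˣ) : ℂ) := by
            funext t
            obtain ⟨z, rfl⟩ := GL2.exists_tt t
            have e2 := congrFun (J_one (F := F)) z
            have e3 := DFunLike.congr_fun hf1 z
            rw [fl_apply] at e3
            rw [e3]
            exact e2
          rw [e1, inner_hom, if_pos rfl]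
          exact one_ne_zero
        have h3 : Ψ' = 1 := by
          by_contra h3
          apply h2
          rw [hsum, classInner_add_right, classInner_irr_ne isIrr_one hΨ (Ne.symm h1),
            classInner_irr_ne isIrr_one hΨ' (Ne.symm h3), add_zero]
        have h4 : Ψ 1 = (Fintype.card F : ℂ) := by
          have h5 := congrFun hsum 1
          rw [(GL2.data F).ind_one, Pi.add_apply, h3, Pi.one_apply] at h5
          linear_combination -h5
        rcases st_cases hΨ h1 hJ1 h4 hχ h with h5 | h5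
        · exact Or.inr (Or.inl ⟨h5, hzχ⟩)
        · exact Or.inr (Or.inr (Or.inl ⟨h5, hzχ⟩))
    · have h1 := eq_of_norm_one hI hχ h (norm_half hΨ hJ hf)
      rcases (deg_cf hΨ).2.1 hc with h3 | h3
      · right; right; right; left
        refine ⟨three_le_of_ne hf, ?_⟩
        rw [h1, I_one, h3, mul_one]
      · right; right; right; right; left
        refine ⟨three_le_of_ne hf, ?_⟩
        rw [h1, I_one, h3, mul_comm]
  · have hne : fl lam ≠ sw (fl lam) := fun h' => hlam ((fl_eq_iff lam).2 h')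
    have hq3 := three_le_of_ne hne
    by_cases h1 : fl lam = (fl lam).comp sg
    · rcases ps_fixed hlam h1 hχ h with h2 | h2
      · right; right; right; left; exact ⟨hq3, h2⟩
      · right; right; right; right; left; exact ⟨hq3, h2⟩
    by_cases h2 : sw (fl lam) = (sw (fl lam)).comp sg
    · have hlam' : lam.comp (GL2.data F).wT ≠ (lam.comp (GL2.data F).wT).comp (GL2.data F).wT := by
        rw [(GL2.data F).comp_wT_comp_wT]
        exact hlam.symm
      rw [← (GL2.data F).ind_comp_wT] at h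
      rw [← fl_wT'] at h2
      rcases ps_fixed hlam' h2 hχ h with h3 | h3
      · right; right; right; left; exact ⟨hq3, h3⟩
      · right; right; right; right; left; exact ⟨hq3, h3⟩
    by_cases h3 : fl lam = (sw (fl lam)).comp sg
    · right; right; right; right; right; right; right
      refine ⟨⟨lam, hlam, h1, h2, h3, h⟩, zt_constituent hI hχ h (zt_I fun c => ?_)⟩
      exact ind_scalar (fun c => cycle_scalar h3 c) c
    · have h4 := eq_of_norm_one hI hχ h ((norm_ps hlam).1 h1 h2 h3)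
      right; right; right; right; right; left
      refine ⟨five_le hne h1 h2 h3, ?_⟩
      rw [h4, I_one, (GL2.data F).ind_one]
      ring

/-- a character which is not orthogonal to the trivial character of the unipotent radical -/
theorem exists_of_sum_ne {χ : _root_.Matrix.SpecialLinearGroup (Fin 3) F → ℂ} (hχ : IsCharacter _ χ)
    (h : ∑ z : F × F, χ (ur z) ≠ 0) : ∃ Ψ : GL (Fin 2) F → ℂ, IsIrrCharacter _ Ψ ∧ classInner χ (I Ψ) ≠ 0 := by
  classical
  have : Fintype (P F) := Fintype.ofFinite _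
  have : Fintype (IrrCharacter (P F)) := @Fintype.ofFinite _ finite_irr
  have : Fintype (pi : P F →* GL (Fin 2) F).ker := Fintype.ofFinite _
  have hres := Characters.Clifford.isCharacter_restrict (P F) hχ
  obtain ⟨c, hc, hc'⟩ := CharDeep.CliffordCorr.exists_nat_coeffs hres
  have h1 : ∑ u : (pi : P F →* GL (Fin 2) F).ker, (fun t : P F => χ t) u ≠ 0 := by
    rw [← Equiv.sum_comp (urE F)]
    exact h
  rw [hc] at h1
  simp only [Finset.sum_apply, Pi.smul_apply] at h1
  rw [Finset.sum_comm] at h1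
  obtain ⟨θ, -, hθ⟩ := Finset.exists_ne_zero_of_sum_ne_zero h1
  rw [← Finset.smul_sum] at hθ
  have h2 : c θ ≠ 0 := by
    intro h2
    rw [h2] at hθ
    simp only [_root_.CharP.cast_eq_zero, _root_.smul_eq_mul, _root_.MulZeroClass.zero_mul, _root_.ne_eq, _root_.not_true_eq_false] at hθ
  have h3 : ∑ u : (pi : P F →* GL (Fin 2) F).ker, (θ : P F → ℂ) u ≠ 0 := fun h3 => hθ (by rw [h3, smul_zero])
  obtain ⟨θ', hθ'⟩ := Blocks.Deflate.exists_deflation (pi : P F →* GL (Fin 2) F).ker _ θ.2 h3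
  let e := QuotientGroup.quotientKerEquivOfSurjective (pi : P F →* GL (Fin 2) F) pi_surj
  have h4 : (θ : P F → ℂ) = ((θ' : P F ⧸ (pi : P F →* GL (Fin 2) F).ker → ℂ) ∘ e.symm) ∘ pi := by
    rw [hθ']
    funext t
    have h5 : e.symm (pi t) = QuotientGroup.mk t := (MulEquiv.symm_apply_eq e).2 rfl
    simp only [Function.comp_apply]
    rw [h5]
  refine ⟨(θ' : P F ⧸ (pi : P F →* GL (Fin 2) F).ker → ℂ) ∘ e.symm,
    isIrr_comp e.symm.toMonoidHom e.symm.surjective θ'.2, ?_⟩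
  unfold I
  rw [OddOrderCharacters.IndRes.classInner_indFun_right (P F) _ (isCharacter_isClassFunction hχ), ← h4]
  have h5 := hc' θ
  change classInner (fun t : P F => χ t) (θ : P F → ℂ) ≠ 0
  rw [h5]
  exact_mod_cast h2

end Cfsg.Agent.H612.Deg3
end

private theorem dce_93442d87faf7 : _root_.True := by
  try have : _root_.True := by simp only [_root_.Cfsg.Agent.H612.Deg3.J.eq_1]
  try have : _root_.True := by simp only [_root_.Cfsg.Agent.H612.Deg3.X.eq_1]
  try have : _root_.True := by simp only [_root_.Cfsg.Agent.H612.Deg3.lift.eq_1]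
  exact _root_.True.intro
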